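import Cfsg.Agent.NF.Core

set_option autoImplicit false

namespace Cfsg.Agent.NF

open Subgroup AH

universe u

variable {A G : Type*} [Group A] [Group G] [Finite A] [Finite G] {φ : A →* MulAut G} {F : Subgroup A}

section Aux
open SemidirectProduct

theorem act_finite : Finite (G ⋊[φ] A) :=
  Finite.of_equiv _ (SemidirectProduct.equivProd (φ := φ)).symm

/-- transfer of `sup_good` to the action -/
theorem act_good (hF : Group.IsNilpotent F) {M : Subgroup G} (hM : ∀ f ∈ F, ∀ x ∈ M, φ f x ∈ M)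
    (hfp : Fpf φ F M) {S : Subgroup (G ⋊[φ] A)}
    (hS : ∀ f ∈ F, ∃ g ∈ M, inl g * inr f ∈ S) :
    ∃ g ∈ M, ∀ f ∈ F, inl g * inr f * (inl g)⁻¹ ∈ S := by
  have := act_finite (φ := φ)
  have hF' : Group.IsNilpotent (F.map (inr : A →* G ⋊[φ] A)) :=
    Group.nilpotent_of_mulEquiv (F.equivMapOfInjective _ inr_injective)
  have h := sup_good (N := M.map (inl : G →* G ⋊[φ] A)) (S := S) hF' ?_ ?_ ?_
  · obtain ⟨_, ⟨g, hg, rfl⟩, h⟩ := h
    exact ⟨g, hg, fun f hf => h _ ⟨f, hf, rfl⟩⟩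
  · rintro _ ⟨f, hf, rfl⟩ _ ⟨g, hg, rfl⟩
    exact ⟨φ f g, hM f hf g hg, by rw [inl_aut, map_inv]⟩
  · rintro _ ⟨g, hg, rfl⟩ h
    rw [hfp g hg fun f hf => inl_injective (φ := φ) ?_, map_one]
    rw [inl_aut, ← h _ ⟨f, hf, rfl⟩, map_inv, mul_inv_cancel_right]
  · rintro _ ⟨f, hf, rfl⟩
    obtain ⟨g, hg, h⟩ := hS f hf
    exact ⟨_, ⟨g, hg, rfl⟩, h⟩

omit [Finite A] [Finite G] in
theorem act_conj (c : G) (f : A) :
    (inl c * inr f * (inl c)⁻¹ : G ⋊[φ] A) = inl (c * φ f c⁻¹) * inr f := by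
  rw [map_mul, inl_aut, map_inv, map_inv]; group

/-- the elements of the semidirect product normalising `P` -/
def actN (φ : A →* MulAut G) (P : Subgroup G) : Subgroup (G ⋊[φ] A) where
  carrier := {γ | ∀ x, x ∈ P ↔ γ.left * φ γ.right x * γ.left⁻¹ ∈ P}
  one_mem' x := by simp
  mul_mem' {a b} ha hb x := by
    rw [hb x, ha]
    simp [mul_assoc]
  inv_mem' {a} ha x := by
    conv_rhs => rw [ha]
    simp [mul_assoc]

end Aux

theorem coset (hF : Group.IsNilpotent F) {M : Subgroup G} (hM : ∀ f ∈ F, ∀ x ∈ M, φ f x ∈ M)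
    (hfp : Fpf φ F M) {g : G} (hg : ∀ f ∈ F, g⁻¹ * φ f g ∈ M) : ∃ c ∈ Cf φ F, c⁻¹ * g ∈ M := by
  obtain ⟨m, hm, h⟩ := act_good hF hM hfp
    (S := (F.map SemidirectProduct.inr).comap (MulAut.conj (SemidirectProduct.inl g)).toMonoidHom)
    (fun f hf => ⟨_, hg f hf, f, hf, by
      have := act_conj (φ := φ) g⁻¹ f
      rw [inv_inv] at this
      simp only [MulEquiv.coe_toMonoidHom, MulAut.conj_apply]
      rw [← this, map_inv]; group⟩)
  refine ⟨g * m, fun f hf => ?_, by simpa using inv_mem hm⟩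
  obtain ⟨f', -, e⟩ := h f hf
  have e2 : (SemidirectProduct.inr f' : G ⋊[φ] A) =
      SemidirectProduct.inl (g * m * φ f (g * m)⁻¹) * SemidirectProduct.inr f := by
    rw [← act_conj, e]
    simp only [MulEquiv.coe_toMonoidHom, MulAut.conj_apply, map_mul]; group
  have e3 := congrArg SemidirectProduct.left e2
  simp only [SemidirectProduct.left_inr, SemidirectProduct.mul_left, SemidirectProduct.left_inl,
    SemidirectProduct.right_inl, map_one, mul_one] at e3
  rw [map_inv] at e3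
  exact (mul_inv_eq_one.1 e3.symm).symm

theorem syl (hF : Group.IsNilpotent F) [F.Normal] (hfp : Fpf φ F ⊤) (p : ℕ) [Fact p.Prime] :
    ∃ P : Sylow p G, Inv φ P ∧ ∀ P' : Sylow p G, (∀ f ∈ F, ∀ x ∈ (P' : Subgroup G), φ f x ∈ (P' : Subgroup G)) →
      P' = P := by
  have mem : ∀ (a : A) (P : Sylow p G) (x : G),
      x ∈ ((φ a • P : Sylow p G) : Subgroup G) ↔ φ a⁻¹ x ∈ (P : Subgroup G) := fun a P x => by
    rw [Sylow.pointwise_smul_def, mem_pointwise_smul_iff_inv_smul_mem, map_inv]; rfl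
  have memg : ∀ (g : G) (P : Sylow p G) (x : G),
      x ∈ ((g • P : Sylow p G) : Subgroup G) ↔ g⁻¹ * x * g ∈ (P : Subgroup G) := fun g P x => by
    rw [Sylow.coe_subgroup_smul, mem_pointwise_smul_iff_inv_smul_mem]; simp
  obtain ⟨P0⟩ : Nonempty (Sylow p G) := inferInstance
  obtain ⟨g, -, hg⟩ := act_good hF (M := ⊤) (fun _ _ _ _ => mem_top _) hfp (S := actN φ P0) (fun f _ => by
    obtain ⟨g, hg⟩ := MulAction.exists_smul_eq G (φ f • P0) P0
    refine ⟨g, mem_top _, fun x => ?_⟩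
    conv_rhs => rw [← hg, memg, mem]
    simp [mul_assoc])
  have hP : ∀ f ∈ F, ∀ x ∈ ((g⁻¹ • P0 : Sylow p G) : Subgroup G),
      φ f x ∈ ((g⁻¹ • P0 : Sylow p G) : Subgroup G) := fun f hf x hx => by
    rw [memg] at hx ⊢
    have := (hg f hf _).1 hx
    rw [act_conj] at this
    simpa [mul_assoc] using this
  generalize g⁻¹ • P0 = P at hP
  have both : ∀ P' : Sylow p G, (∀ f ∈ F, ∀ x ∈ (P' : Subgroup G), φ f x ∈ (P' : Subgroup G)) →
      ∀ f ∈ F, ∀ x, x ∈ (P' : Subgroup G) ↔ φ f x ∈ (P' : Subgroup G) := fun P' h f hf x =>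
    ⟨h f hf x, fun k => by simpa using h f⁻¹ (inv_mem hf) _ k⟩
  have uniq : ∀ P' : Sylow p G, (∀ f ∈ F, ∀ x ∈ (P' : Subgroup G), φ f x ∈ (P' : Subgroup G)) →
      P' = P := fun P' h => by
    obtain ⟨k, rfl⟩ := MulAction.exists_smul_eq G P P'
    obtain ⟨c, hc, e⟩ := coset hF (M := normalizer ((P : Subgroup G) : Set G)) (g := k)
      (fun f hf n hn => mem_normalizer_iff.2 fun x => by
        obtain ⟨y, rfl⟩ := (φ f).surjective x
        rw [← map_inv, ← map_mul, ← map_mul, ← both P hP f hf, ← both P hP f hf]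
        exact mem_normalizer_iff.1 hn y)
      (fun x _ hx => hfp x (mem_top _) hx)
      (fun f hf => mem_normalizer_iff.2 fun x => by
        obtain ⟨y, rfl⟩ := (φ f).surjective x
        have h1 := both _ h f hf (k * y * k⁻¹)
        rw [memg, memg] at h1
        rw [← both P hP f hf]
        simpa [mul_assoc] using h1)
    rw [hfp c (mem_top _) hc, inv_one, one_mul] at e
    exact Sylow.smul_eq_iff_mem_normalizer.2 e
  refine ⟨P, fun a x hx => ?_, uniq⟩
  rw [← uniq (φ a • P) fun f hf y hy => ?_, mem]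
  · simpa using hx
  · rw [mem] at hy ⊢
    have := hP _ (‹F.Normal›.conj_mem f hf a⁻¹) _ hy
    simpa using this

/-- fixed-point-freeness passes to quotients -/
theorem Fpf.quot (hF : Group.IsNilpotent F) (hfp : Fpf φ F ⊤) {N : Subgroup G} [N.Normal] (hN : Inv φ N)
    {ψ : A →* MulAut (G ⧸ N)} (hψ : ∀ a (x : G), ψ a x = (φ a x : G ⧸ N)) : Fpf ψ F ⊤ := by
  intro x _ hx
  obtain ⟨g, rfl⟩ := QuotientGroup.mk_surjective x
  obtain ⟨c, hc, e⟩ := coset hF (M := N) (g := g) (fun f _ => hN f) (fun x _ hx => hfp x (mem_top _) hx)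
    (fun f hf => QuotientGroup.eq.1 (by rw [← hψ, hx f hf]))
  rw [hfp c (mem_top _) hc, inv_one, one_mul] at e
  exact (QuotientGroup.eq_one_iff g).2 e

end Cfsg.Agent.NF
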