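import Cfsg.Agent.NF.Defs
import Cfsg.Agent.AH.BasC
import Cfsg.Agent.S0035
import Cfsg.Agent.S0042
import Cfsg.Agent.H2.MinNormal

set_option autoImplicit false

namespace Cfsg.Agent.NF

open Subgroup AH

universe u

variable {A G : Type*} [Group A] [Group G] {φ : A →* MulAut G}

theorem bas_mul (φ : A →* MulAut G) (a b : A) (x : G) : φ (a * b) x = φ a (φ b x) := by rw [map_mul]; rfl

theorem bas_inv (φ : A →* MulAut G) (a : A) (x : G) : φ a (φ a⁻¹ x) = x := by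
  rw [← bas_mul, mul_inv_cancel, map_one]; rfl

theorem bas_inv' (φ : A →* MulAut G) (a : A) (x : G) : φ a⁻¹ (φ a x) = x := by
  rw [← bas_mul, inv_mul_cancel, map_one]; rfl

theorem fr_of [Finite A] (F H : Subgroup A) [F.Normal] (hH : Cfsg.IsFrobeniusComplement H)
    (hk : Cfsg.frobeniusKernel H = (F : Set A)) : Fr F H ∧ ∀ a : A, ∃ f ∈ F, ∃ h ∈ H, a = f * h := by
  obtain ⟨N, hN, -, hc⟩ := S0035.result H hH
  obtain ⟨N', hN', -, hn⟩ := S0042.result H hH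
  obtain rfl : N = F := SetLike.coe_injective (hN.trans hk)
  obtain rfl : N' = N := SetLike.coe_injective (hN'.trans hk)
  refine ⟨⟨hn, fun h _ f hf => Normal.conj_mem inferInstance f hf h, fun h hh f hf e => ?_⟩, fun a => ?_⟩
  · by_cases hf' : f ∈ H
    · exact Or.inr (disjoint_def.1 hc.disjoint hf hf')
    · refine Or.inl (mem_bot.1 (hH.2.2 f hf' ▸ mem_inf.2 ⟨hh, ?_⟩))
      exact ⟨h, hh, by simp [← e]⟩
  · obtain ⟨⟨f, h⟩, e⟩ := hc.2 a
    exact ⟨f, f.2, h, h.2, e.symm⟩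

theorem Fr.mono [Finite A] {F H F' H' : Subgroup A} (h : Fr F H) (h1 : F' ≤ F) (h2 : H' ≤ H)
    (h3 : ∀ h ∈ H', ∀ f ∈ F', h * f * h⁻¹ ∈ F') : Fr F' H' :=
  haveI := h.nil
  ⟨Group.nilpotent_of_mulEquiv (subgroupOfEquivOfLe h1), h3, fun a ha f hf => h.frob a (h2 ha) f (h1 hf)⟩

theorem exists_sub (K : Subgroup G) (hK : Inv φ K) :
    ∃ ψ : A →* MulAut K, ∀ a (x : K), (ψ a x : G) = φ a x :=
  ⟨MonoidHom.mk' (fun a =>
    { toFun := fun x => ⟨φ a x, hK a x x.2⟩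
      invFun := fun x => ⟨φ a⁻¹ x, hK _ x x.2⟩
      left_inv := fun x => Subtype.ext (bas_inv' φ a x)
      right_inv := fun x => Subtype.ext (bas_inv φ a x)
      map_mul' := fun x y => Subtype.ext (map_mul (φ a) x.1 y.1) })
    fun a b => MulEquiv.ext fun x => Subtype.ext (bas_mul φ a b x), fun _ _ => rfl⟩

theorem exists_quot (N : Subgroup G) [N.Normal] (hN : Inv φ N) :
    ∃ ψ : A →* MulAut (G ⧸ N), ∀ a (x : G), ψ a x = (φ a x : G ⧸ N) :=
  ⟨MonoidHom.mk' (fun a =>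
    { toFun := QuotientGroup.map N N (φ a).toMonoidHom (hN a)
      invFun := QuotientGroup.map N N (φ a⁻¹).toMonoidHom (hN _)
      left_inv := fun x => QuotientGroup.induction_on x fun x => congrArg _ (bas_inv' φ a x)
      right_inv := fun x => QuotientGroup.induction_on x fun x => congrArg _ (bas_inv φ a x)
      map_mul' := map_mul _ })
    fun a b => MulEquiv.ext fun x => QuotientGroup.induction_on x fun x => congrArg _ (bas_mul φ a b x),
    fun _ _ => rfl⟩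

theorem Inv.map_eq {K : Subgroup G} (hK : Inv φ K) (a : A) : K.map (φ a).toMonoidHom = K :=
  le_antisymm (map_le_iff_le_comap.2 (hK a)) fun x hx => ⟨_, hK a⁻¹ x hx, bas_inv φ a x⟩

theorem Inv.of_map {K : Subgroup G} (hK : ∀ a, K.map (φ a).toMonoidHom = K) : Inv φ K :=
  fun a x hx => (hK a).le ⟨x, hx, rfl⟩

theorem Inv.inf {K L : Subgroup G} (hK : Inv φ K) (hL : Inv φ L) : Inv φ (K ⊓ L) :=
  fun a x hx => ⟨hK a x hx.1, hL a x hx.2⟩

theorem Inv.sup {K L : Subgroup G} (hK : Inv φ K) (hL : Inv φ L) : Inv φ (K ⊔ L) :=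
  Inv.of_map fun a => by rw [Subgroup.map_sup, hK.map_eq, hL.map_eq]

theorem Inv.centralizer {K : Subgroup G} (hK : Inv φ K) : Inv φ (centralizer (K : Set G)) :=
  fun a x hx k hk => by
    rw [← bas_inv φ a k, ← map_mul, ← map_mul, hx _ (hK _ k hk)]

theorem Inv.normalizer {K : Subgroup G} (hK : Inv φ K) : Inv φ (normalizer (K : Set G)) :=
  fun a x hx k => by
    have h : ∀ y, y ∈ K ↔ φ a⁻¹ y ∈ K := fun y => ⟨hK _ y, fun h => bas_inv φ a y ▸ hK a _ h⟩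
    change k ∈ K ↔ _ ∈ K
    rw [h, h (_ * _), map_mul, map_mul, map_inv (φ a⁻¹), bas_inv']
    exact hx _

theorem exists_MI [Finite G] {N : Subgroup G} (hn : N.Normal) (hN : Inv φ N) (h0 : N ≠ ⊥) {p : ℕ}
    (hp : p.Prime) (hP : IsPGroup p N) : ∃ V ≤ N, MI φ V p := by
  have := Fact.mk hp
  obtain ⟨V, -, ⟨h1, h2, h3, h4⟩, mn⟩ := Finite.exists_le_minimal
    (p := fun V : Subgroup G => V ≤ N ∧ V.Normal ∧ Inv φ V ∧ V ≠ ⊥) (a := N) ⟨le_rfl, hn, hN, h0⟩
  have hmin : ∀ L : Subgroup G, L.Normal → Inv φ L → L ≤ V → L = ⊥ ∨ L = V := fun L a b c =>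
    or_iff_not_imp_left.2 fun d => le_antisymm c (mn ⟨c.trans h1, a, b, d⟩ c)
  have hV := hP.to_le h1
  have hc : IsMulCommutative ↥(V ⊓ centralizer (V : Set G)) :=
    H2.isMulCommutative_of_forall fun x hx y hy => hy.2 x hx.1
  have hZ : V ⊓ centralizer (V : Set G) ≠ ⊥ := fun e => by
    have := (nontrivial_iff_ne_bot V).2 h4
    have := hV.center_nontrivial
    obtain ⟨z, hz⟩ := exists_ne (1 : center V)
    exact hz (Subtype.ext (Subtype.ext (mem_bot.1 (e ▸ mem_inf.2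
      ⟨z.1.2, fun y hy => congrArg Subtype.val (mem_center_iff.1 z.2 ⟨y, hy⟩)⟩))))
  obtain ⟨q, hq, x, hx, ho⟩ := H2.exists_mem_prime_orderOf hZ
  obtain rfl : q = p := by
    obtain ⟨k, hk⟩ := hV ⟨x, hx.1⟩
    exact (Nat.prime_dvd_prime_iff_eq hq hp).1
      (hq.dvd_of_dvd_pow (ho ▸ orderOf_dvd_of_pow_eq_one (congrArg Subtype.val hk)))
  have hL := (hmin (H2.powKer _ hc q) (H2.powKer_normal _ hc q)
    (fun a y hy => ⟨(h3.inf h3.centralizer) a y hy.1, by rw [← map_pow, hy.2, map_one]⟩)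
    fun y hy => hy.1.1).resolve_left fun e => hq.one_lt.ne' (by
      have hx1 : x = 1 := mem_bot.1 (e.le (H2.mem_powKer.2 ⟨hx, ho ▸ pow_orderOf_eq_one x⟩))
      rw [← ho, hx1, orderOf_one])
  exact ⟨V, h1, h2, h3, h4, fun x hx y hy => (hL.ge hy).1.2 x hx, fun x hx => (hL.ge hx).2, hmin⟩

theorem exists_rep2 {G : Type u} [Group G] {φ : A →* MulAut G} (V : Subgroup G) (hV : V.Normal)
    (hi : Inv φ V) (p : ℕ) [Fact p.Prime]
    (hc : ∀ x ∈ V, ∀ y ∈ V, x * y = y * x) (he : ∀ x ∈ V, x ^ p = 1) :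
    ∃ (W : Type u) (_ : AddCommGroup W) (_ : Module (ZMod p) W) (ι : W → G)
      (σ : G →* (W ≃ₗ[ZMod p] W)) (ρ : A →* (W ≃ₗ[ZMod p] W)),
      Rp V ι σ ∧ ∀ a w, ι (ρ a w) = φ a (ι w) := by
  obtain ⟨W, _, _, ι, σ, h⟩ := exists_rep V hV p hc he
  choose c hc using fun a w => (h.mem _).1 (hi a _ ((h.mem _).2 ⟨w, rfl⟩))
  have h1 : ∀ a w w', c a (w + w') = c a w + c a w' := fun a w w' => h.inj (by
    rw [hc, h.add, h.add, hc, hc, map_mul])
  let l : A → (W ≃ₗ[ZMod p] W) := fun a =>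
    { toFun := c a
      invFun := c a⁻¹
      map_add' := h1 a
      map_smul' := fun k w => ZMod.map_smul (AddMonoidHom.mk' (c a) (h1 a)) k w
      left_inv := fun w => h.inj (by rw [hc, hc, bas_inv'])
      right_inv := fun w => h.inj (by rw [hc, hc, bas_inv]) }
  exact ⟨W, _, _, ι, σ, MonoidHom.mk' l fun a b => LinearEquiv.ext fun w => h.inj (by
    change ι (c (a * b) w) = ι (c a (c b w))
    rw [hc, hc, hc, bas_mul]), h, hc⟩

end Cfsg.Agent.NF
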