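import Cfsg.Agent.NF.Defs

set_option autoImplicit false

namespace Cfsg.Agent.NF

open Subgroup AH

universe u

section aux
variable {Γ : Type u} [Group Γ]

theorem core_cen {F K L : Subgroup Γ} (hF : Group.IsNilpotent F) (hL : L ≤ F)
    (hn : ∀ f ∈ F, ∀ x ∈ L, f * x * f⁻¹ ∈ L) (h : ¬ L ≤ K) :
    ∃ x ∈ L, x ∉ K ∧ ∀ f ∈ F, x * f * x⁻¹ * f⁻¹ ∈ K := by
  by_contra h1
  push Not at h1
  obtain ⟨n, h2⟩ := (isNilpotent_iff_lowerCentralSeries F).1 hF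
  have : ∀ n, ∃ x ∈ L, x ∉ K ∧ x ∈ F.lowerCentralSeries n := fun n => by
    induction n with
    | zero =>
      obtain ⟨x, h3, h4⟩ := SetLike.not_le_iff_exists.1 h
      exact ⟨x, h3, h4, hL h3⟩
    | succ n ih =>
      obtain ⟨x, h3, h4, h5⟩ := ih
      obtain ⟨f, h6, h7⟩ := h1 x h3 h4
      refine ⟨_, ?_, h7, commutator_mem_commutator h5 h6⟩
      have := L.mul_mem h3 (hn f h6 _ (L.inv_mem h3))
      simpa only [mul_assoc] using this
  obtain ⟨x, -, h3, h4⟩ := this n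
  rw [h2, mem_bot] at h4
  exact h3 (h4 ▸ K.one_mem)

theorem core_disj {N F : Subgroup Γ} (hF : Group.IsNilpotent F)
    (hn : ∀ f ∈ F, ∀ g ∈ N, f * g * f⁻¹ ∈ N) (hc : ∀ g ∈ N, (∀ f ∈ F, g * f = f * g) → g = 1)
    {x : Γ} (h1 : x ∈ N) (h2 : x ∈ F) : x = 1 := by
  by_contra h
  obtain ⟨y, h3, h4, h5⟩ := core_cen (K := ⊥) (L := N ⊓ F) hF inf_le_right
    (fun f hf y hy => ⟨hn f hf y hy.1, F.mul_mem (F.mul_mem hf hy.2) (F.inv_mem hf)⟩)
    fun h' => h (h' ⟨h1, h2⟩)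
  refine h4 (hc y h3.1 fun f hf => ?_)
  have := mem_bot.1 (h5 f hf)
  rwa [mul_inv_eq_one, mul_inv_eq_iff_eq_mul] at this

/-- maximal `r`-subgroup of `X` -/
def MaxP (r : ℕ) (T X : Subgroup Γ) : Prop :=
  T ≤ X ∧ IsPGroup r T ∧ ∀ T', T' ≤ X → IsPGroup r T' → T ≤ T' → T' = T

theorem MaxP.of_sylow {r : ℕ} {X : Subgroup Γ} (P : Sylow r X) : MaxP r ((P : Subgroup X).map X.subtype) X := by
  refine ⟨map_subtype_le _, P.2.map _, fun T' h1 h2 h3 => ?_⟩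
  rw [← P.3 (h2.comap_subtype (K := X)) (map_le_iff_le_comap.1 h3)]
  exact (map_subgroupOf_eq_of_le h1).symm

theorem MaxP.exists_le {r : ℕ} {T X : Subgroup Γ} (h1 : T ≤ X) (h2 : IsPGroup r T) :
    ∃ P : Sylow r X, T ≤ (P : Subgroup X).map X.subtype := by
  obtain ⟨P, hP⟩ := (h2.comap_subtype (K := X)).exists_le_sylow
  exact ⟨P, fun x hx => ⟨⟨x, h1 hx⟩, hP hx, rfl⟩⟩

theorem MaxP.sylow {r : ℕ} {T X : Subgroup Γ} (h : MaxP r T X) :
    ∃ P : Sylow r X, (P : Subgroup X).map X.subtype = T := by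
  obtain ⟨P, hP⟩ := MaxP.exists_le h.1 h.2.1
  exact ⟨P, h.2.2 _ (map_subtype_le _) (P.2.map _) hP⟩

theorem MaxP.map {r : ℕ} {T X : Subgroup Γ} (h : MaxP r T X) {s : Γ}
    (hs : ∀ x, x ∈ X ↔ s * x * s⁻¹ ∈ X) : MaxP r (T.map (MulAut.conj s).toMonoidHom) X := by
  refine ⟨by rintro _ ⟨x, hx, rfl⟩; exact (hs x).1 (h.1 hx), h.2.1.map _, fun T' h1 h2 h3 => ?_⟩
  rw [← h.2.2 (T'.comap (MulAut.conj s).toMonoidHom) (fun x hx => (hs x).2 (h1 hx))
    (h2.comap_of_injective _ (MulAut.conj s).injective) (map_le_iff_le_comap.1 h3)]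
  exact (map_comap_eq_self_of_surjective (MulAut.conj s).surjective _).symm

variable [Finite Γ] {r : ℕ} [Fact r.Prime]

theorem MaxP.conj {T T' X : Subgroup Γ} (h : MaxP r T X) (h' : MaxP r T' X) :
    ∃ x ∈ X, ∀ y, y ∈ T ↔ x * y * x⁻¹ ∈ T' := by
  obtain ⟨P, rfl⟩ := h.sylow
  obtain ⟨P', rfl⟩ := h'.sylow
  obtain ⟨x, rfl⟩ := MulAction.exists_smul_eq X P P'
  refine ⟨x, x.2, fun y => ⟨?_, ?_⟩⟩
  · rintro ⟨y, hy, rfl⟩
    exact ⟨x * y * x⁻¹, ⟨y, hy, rfl⟩, rfl⟩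
  · rintro ⟨_, ⟨z, hz, rfl⟩, e⟩
    refine ⟨z, hz, ?_⟩
    have : (x : Γ) * z * (x : Γ)⁻¹ = x * y * (x : Γ)⁻¹ := e
    simpa using this

theorem MaxP.cover {T X N : Subgroup Γ} [N.Normal] (h : MaxP r T X) (hX : ∀ x ∈ X, ∃ k, x ^ r ^ k ∈ N)
    {x : Γ} (hx : x ∈ X) : ∃ g ∈ N, g * x ∈ T := by
  obtain ⟨P, rfl⟩ := h.sylow
  have h1 : IsPGroup r (X ⧸ N.subgroupOf X) := fun y => by
    obtain ⟨y, rfl⟩ := QuotientGroup.mk_surjective y
    obtain ⟨k, hk⟩ := hX y y.2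
    exact ⟨k, by rw [← QuotientGroup.mk_pow, QuotientGroup.eq_one_iff]; exact hk⟩
  obtain ⟨k, hk⟩ := IsPGroup.iff_card.1 h1
  have h2 : N.subgroupOf X ⊔ P = ⊤ := by
    rw [← index_eq_one]
    have h3 : (N.subgroupOf X ⊔ P).index ∣ r ^ k := hk ▸ index_dvd_of_le le_sup_left
    have h4 : ¬ r ∣ (N.subgroupOf X ⊔ P).index := fun h => P.not_dvd_index (h.trans (index_dvd_of_le le_sup_right))
    exact Nat.Coprime.eq_one_of_dvd (((Nat.Prime.coprime_iff_not_dvd Fact.out).2 h4).symm.pow_right k) h3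
  have h3 : (⟨x, hx⟩ : X) ∈ N.subgroupOf X ⊔ P := h2 ▸ mem_top _
  obtain ⟨g, hg, t, ht, e⟩ := mem_sup_of_normal_left.1 h3
  exact ⟨(g : Γ)⁻¹, N.inv_mem hg, t, ht, by rw [eq_inv_mul_iff_mul_eq]; exact congrArg Subtype.val e⟩

omit [Fact r.Prime] in
theorem core_lt {M N : Subgroup Γ} (h : M < N) : Nat.card M < Nat.card N :=
  Set.Finite.card_lt_card (Set.toFinite _) (SetLike.coe_ssubset_coe.2 h)

end aux

/-- the induction hypothesis -/
def CoreP (n : ℕ) : Prop := ∀ (Γ : Type u) [Group Γ] [Finite Γ] (N F S : Subgroup Γ), Nat.card N < n →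
  Group.IsNilpotent F → (∀ f ∈ F, ∀ g ∈ N, f * g * f⁻¹ ∈ N) → (∀ g ∈ N, (∀ f ∈ F, g * f = f * g) → g = 1) →
  Sup N F S → Good N F S

section step
variable {Γ : Type u} [Group Γ] [Finite Γ] {N F : Subgroup Γ} [hN : N.Normal] (ih : CoreP.{u} (Nat.card N))
  (hF : Group.IsNilpotent F) (hc : ∀ g ∈ N, (∀ f ∈ F, g * f = f * g) → g = 1)
include ih hF hc

theorem core_conj {M S : Subgroup Γ} (hM : M < N) {g : Γ} (hg : g ∈ N)
    (h1 : ∀ f ∈ F, ∀ x ∈ M, g * f * g⁻¹ * x * (g * f * g⁻¹)⁻¹ ∈ M)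
    (h2 : ∀ f ∈ F, ∃ m ∈ M, m * (g * f * g⁻¹) ∈ S) : Good N F S := by
  obtain ⟨m, hm, h3⟩ := ih Γ M (F.map (MulAut.conj g).toMonoidHom) S (core_lt hM)
    (Group.nilpotent_of_mulEquiv (F.equivMapOfInjective _ (MulAut.conj g).injective))
    (by rintro _ ⟨f, hf, rfl⟩; exact h1 f hf)
    (fun x hx h => by
      have := hc (g⁻¹ * x * g) (by simpa using hN.conj_mem x (hM.le hx) g⁻¹) fun f hf => by
        have : x * (g * f * g⁻¹) = g * f * g⁻¹ * x := h _ ⟨f, hf, rfl⟩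
        calc g⁻¹ * x * g * f = g⁻¹ * (x * (g * f * g⁻¹)) * g := by group
          _ = _ := by rw [this]; group
      calc x = g * (g⁻¹ * x * g) * g⁻¹ := by group
        _ = 1 := by rw [this]; group)
    (by rintro _ ⟨f, hf, rfl⟩; exact h2 f hf)
  refine ⟨m * g, N.mul_mem (hM.le hm) hg, fun f hf => ?_⟩
  have : m * (g * f * g⁻¹) * m⁻¹ ∈ S := h3 _ ⟨f, hf, rfl⟩
  simpa only [mul_assoc, mul_inv_rev] using this

theorem core_up {S S' : Subgroup Γ} (h : S ≤ S') (h1 : ¬ N ≤ S') (h2 : Good N F S') (h3 : Sup N F S) :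
    Good N F S := by
  obtain ⟨g, hg, h2⟩ := h2
  refine core_conj ih hF hc (M := N ⊓ S') (inf_lt_left.2 h1) hg
    (fun f hf x hx => ⟨hN.conj_mem x hx.1 _, S'.mul_mem (S'.mul_mem (h2 f hf) hx.2) (S'.inv_mem (h2 f hf))⟩)
    fun f hf => ?_
  obtain ⟨m, hm, h4⟩ := h3 f hf
  refine ⟨m * f * (g * f * g⁻¹)⁻¹, ⟨?_, S'.mul_mem (h h4) (S'.inv_mem (h2 f hf))⟩, by rwa [inv_mul_cancel_right]⟩
  have := N.mul_mem (N.mul_mem hm (hN.conj_mem g hg f)) (N.inv_mem hg)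
  change _ ∈ N
  simpa only [mul_assoc, mul_inv_rev, inv_inv] using this

theorem core_quot {M S : Subgroup Γ} [hM : M.Normal] (h0 : M ≠ ⊥) (h1 : M < N) (hS : Sup N F S) :
    Good N F S := by
  let π := QuotientGroup.mk' M
  obtain ⟨_, ⟨g, hg, rfl⟩, h2⟩ := ih (Γ ⧸ M) (N.map π) (F.map π) (S.map π)
    (by
      rw [← relIndex_ker, QuotientGroup.ker_mk', ← (M.subgroupOf N).card_mul_index,
        Nat.card_congr (subgroupOfEquivOfLe h1.le).toEquiv]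
      exact lt_mul_left (Nat.pos_of_ne_zero index_ne_zero_of_finite) ((one_lt_card_iff_ne_bot M).2 h0))
    (Group.nilpotent_of_surjective _ (π.subgroupMap_surjective F))
    (by rintro _ ⟨f, -, rfl⟩ _ ⟨x, hx, rfl⟩; exact ⟨_, hN.conj_mem x hx f, rfl⟩)
    (by
      rintro _ ⟨g, hg, rfl⟩ h
      obtain ⟨m, hm, h3⟩ := ih Γ M F (F.map (MulAut.conj g).toMonoidHom) (core_lt h1) hF
        (fun f _ x hx => hM.conj_mem x hx f) (fun x hx => hc x (h1.le hx)) fun f hf =>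
          ⟨g * f * g⁻¹ * f⁻¹, (QuotientGroup.eq_one_iff _).1 (by
            have : π g * π f = π f * π g := h _ ⟨f, hf, rfl⟩
            change π g * π f * (π g)⁻¹ * (π f)⁻¹ = 1
            rw [this]; group), f, hf, by simp⟩
      have h4 : g⁻¹ * m ∈ N := N.mul_mem (N.inv_mem hg) (h1.le hm)
      have h5 := hc _ h4 fun f hf => by
        obtain ⟨f', hf', e⟩ := h3 f hf
        have e' : g * f' * g⁻¹ = m * f * m⁻¹ := e
        have h6 : f' = g⁻¹ * m * f * (g⁻¹ * m)⁻¹ := by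
          calc f' = g⁻¹ * (g * f' * g⁻¹) * g := by group
            _ = _ := by rw [e']; group
        have := core_disj hF (fun f _ x hx => hN.conj_mem x hx f) hc (x := f' * f⁻¹)
          (by simpa only [h6, mul_assoc] using N.mul_mem h4 (hN.conj_mem _ (N.inv_mem h4) f))
          (F.mul_mem hf' (F.inv_mem hf))
        rwa [h6, mul_inv_eq_one, mul_inv_eq_iff_eq_mul] at this
      rw [inv_mul_eq_one.1 h5]
      exact (QuotientGroup.eq_one_iff _).2 hm)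
    (by
      rintro _ ⟨f, hf, rfl⟩
      obtain ⟨g, hg, h⟩ := hS f hf
      exact ⟨_, ⟨g, hg, rfl⟩, _, h, rfl⟩)
  refine core_conj ih hF hc h1 hg (fun f _ x hx => hM.conj_mem x hx _) fun f hf => ?_
  obtain ⟨s, hs, e⟩ := h2 _ ⟨f, hf, rfl⟩
  refine ⟨s * (g * f * g⁻¹)⁻¹, (QuotientGroup.eq_one_iff _).1 ?_, by rwa [inv_mul_cancel_right]⟩
  change π s * (π g * π f * (π g)⁻¹)⁻¹ = 1
  rw [e, mul_inv_cancel]

variable {r : ℕ} [Fact r.Prime] {D : Subgroup Γ} [hD : D.Normal] (hND : N ≤ D)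
  (hr : ∀ x ∈ D, ∃ k, x ^ r ^ k ∈ N) (ht : ∀ x : Γ, ∃ g ∈ N, ∃ f ∈ F, x = g * f)
include hND hr ht

omit ih hF hc in
theorem core_fr {S T : Subgroup Γ} (hS : Sup N F S) (hT : MaxP r T (S ⊓ D)) :
    (∀ x ∈ D, ∃ g ∈ N, g * x ∈ T) ∧ Sup N F (S ⊓ normalizer (T : Set Γ)) := by
  have h1 := fun x (hx : x ∈ S ⊓ D) => hT.cover (N := N) (fun x hx => hr x hx.2) hx
  refine ⟨fun x hx => ?_, fun f hf => ?_⟩
  · obtain ⟨g, hg, f, hf, rfl⟩ := ht x
    obtain ⟨g1, hg1, h2⟩ := hS f hf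
    obtain ⟨g2, hg2, h3⟩ := h1 _ ⟨h2, D.mul_mem (hND hg1) ((D.mul_mem_cancel_left (hND hg)).1 hx)⟩
    exact ⟨g2 * g1 * g⁻¹, N.mul_mem (N.mul_mem hg2 hg1) (N.inv_mem hg), by simpa [mul_assoc] using h3⟩
  · obtain ⟨g, hg, h2⟩ := hS f hf
    obtain ⟨d, hd, h3⟩ := (hT.map (s := g * f) fun x => and_congr
      ((S.mul_mem_cancel_right (S.inv_mem h2)).trans (S.mul_mem_cancel_left h2)).symm
      ⟨fun h => hD.conj_mem x h _, fun h => by simpa [mul_assoc] using hD.conj_mem _ h (g * f)⁻¹⟩).conj hT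
    obtain ⟨g1, hg1, h4⟩ := h1 d⁻¹ (inv_mem hd)
    have h5 : d * (g * f) ∈ S ⊓ normalizer (T : Set Γ) := by
      refine ⟨S.mul_mem hd.1 h2, mem_normalizer_iff.2 fun y => ?_⟩
      have := h3 (g * f * y * (g * f)⁻¹)
      simp only [mul_assoc, mul_inv_rev] at this ⊢
      rw [← this]
      refine ⟨fun h => ⟨y, h, by simp [mul_assoc]⟩, ?_⟩
      rintro ⟨z, hz, e⟩
      have : z = y := by simpa [mul_assoc] using e
      exact this ▸ hz
    refine ⟨g1 * g, N.mul_mem hg1 hg, ?_⟩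
    have := mul_mem (⟨(hT.1 h4).1, le_normalizer h4⟩ : g1 * d⁻¹ ∈ S ⊓ normalizer (T : Set Γ)) h5
    simpa [mul_assoc] using this

theorem core_chain (hA : ∀ T ≤ D, IsPGroup r T → (∀ x ∈ D, ∃ g ∈ N, g * x ∈ T) →
      Sup N F (normalizer (T : Set Γ)) → ¬ N ≤ normalizer (T : Set Γ))
    {S : Subgroup Γ} (hS : Sup N F S) (h0 : ¬ N ≤ S) :
    Good N F S ↔ ∃ P, MaxP r P D ∧ Good N F (normalizer (P : Set Γ)) := by
  have hmono : ∀ {X Y : Subgroup Γ}, X ≤ Y → Good N F X → Good N F Y := fun h ⟨g, hg, h'⟩ =>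
    ⟨g, hg, fun f hf => h (h' f hf)⟩
  have hsup : ∀ {X Y : Subgroup Γ}, X ≤ Y → Sup N F X → Sup N F Y := fun h h' f hf =>
    (h' f hf).imp fun _ h'' => ⟨h''.1, h h''.2⟩
  have key : ∀ {S T : Subgroup Γ}, Sup N F S → ¬ N ≤ S → MaxP r T (S ⊓ D) →
      (Good N F S ↔ Good N F (normalizer (T : Set Γ))) := fun hS h0 hT => by
    obtain ⟨h1, h2⟩ := core_fr hND hr ht hS hT
    exact ⟨fun h => hmono inf_le_right (core_up ih hF hc inf_le_left h0 h h2), fun h => hmono inf_le_left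
      (core_up ih hF hc inf_le_right (hA _ (hT.1.trans inf_le_right) hT.2.1 h1 (hsup inf_le_right h2)) h h2)⟩
  have main : ∀ T : Subgroup Γ, T ≤ D → IsPGroup r T → (∀ x ∈ D, ∃ g ∈ N, g * x ∈ T) →
      Sup N F (normalizer (T : Set Γ)) →
      (Good N F (normalizer (T : Set Γ)) ↔ ∃ P, MaxP r P D ∧ Good N F (normalizer (P : Set Γ))) := by
    intro T
    induction T using WellFoundedGT.induction with
    | ind T IH =>
    intro h1 h2 h3 h4
    obtain ⟨P, hP⟩ := MaxP.exists_le (le_inf le_normalizer h1) h2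
    have h5 := MaxP.of_sylow P
    rcases hP.lt_or_eq with h6 | h6
    · obtain ⟨h7, h8⟩ := core_fr hND hr ht h4 h5
      rw [key h4 (hA T h1 h2 h3 h4) h5]
      exact IH _ h6 (h5.1.trans inf_le_right) h5.2.1 h7 (hsup inf_le_right h8)
    · rw [← h6] at h5
      have h7 : MaxP r T D := ⟨h1, h2, fun T' h7 h8 h9 => by
        by_contra h10
        have h11 := Group.normalizerCondition_of_isNilpotent (G := T') (h := h8.isNilpotent) (T.subgroupOf T')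
          (lt_top_iff_ne_top.2 fun h => h10 (le_antisymm (subgroupOf_eq_top.1 h) h9))
        rw [← subgroupOf_normalizer_eq h9] at h11
        obtain ⟨x, h12, h13⟩ := SetLike.exists_of_lt h11
        exact h13 ((h5.2.2 (normalizer (T : Set Γ) ⊓ T') (inf_le_inf_left _ h7) (h8.to_le inf_le_right)
          (le_inf le_normalizer h9)).le ⟨h12, x.2⟩)⟩
      refine ⟨fun h => ⟨T, h7, h⟩, ?_⟩
      rintro ⟨Q, h8, g, hg, h9⟩
      obtain ⟨d, hd, h10⟩ := h8.conj h7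
      obtain ⟨g1, hg1, h11⟩ := h3 d⁻¹ (inv_mem hd)
      have h12 : ∀ y, y ∈ Q ↔ g1 * y * g1⁻¹ ∈ T := fun y => by
        rw [h10, mem_normalizer_iff.1 (le_normalizer h11)]
        simp [mul_assoc]
      refine ⟨g1 * g, N.mul_mem hg1 hg, fun f hf => mem_normalizer_iff.2 fun y => ?_⟩
      have h13 := h12 (g1⁻¹ * y * g1)
      have h14 := h12 (g * f * g⁻¹ * (g1⁻¹ * y * g1) * (g * f * g⁻¹)⁻¹)
      rw [← mem_normalizer_iff.1 (h9 f hf), h13] at h14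
      simpa [mul_assoc] using h14
  obtain ⟨P, -⟩ := MaxP.exists_le (r := r) (bot_le (a := S ⊓ D)) IsPGroup.of_bot
  have h5 := MaxP.of_sylow P
  obtain ⟨h7, h8⟩ := core_fr hND hr ht hS h5
  rw [key hS h0 h5]
  exact main _ (h5.1.trans inf_le_right) h5.2.1 h7 (hsup inf_le_right h8)

omit hND hr in
theorem core_step {S : Subgroup Γ} (hS : Sup N F S) : Good N F S := by
  by_cases h0 : N ≤ S
  · refine ⟨1, N.one_mem, fun f hf => ?_⟩
    obtain ⟨g, hg, h⟩ := hS f hf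
    simpa using (S.mul_mem_cancel_left (h0 hg)).1 h
  by_cases hm : ∃ M : Subgroup Γ, M.Normal ∧ M ≠ ⊥ ∧ M < N
  · obtain ⟨M, _, h1, h2⟩ := hm
    exact core_quot ih hF hc h1 h2 hS
  have hm' : ∀ M : Subgroup Γ, M.Normal → M ≤ N → M = ⊥ ∨ N ≤ M := fun M h1 h2 => by
    by_contra h
    push Not at h
    exact hm ⟨M, h1, h.1, lt_of_le_not_ge h2 h.2⟩
  have h1 : ¬ N ≤ ⊥ := fun h => h0 (h.trans bot_le)
  obtain ⟨r, hr, P, hP⟩ : ∃ r, r.Prime ∧ ∃ P : Sylow r F,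
      ¬ (P : Subgroup F) ≤ (centralizer (N : Set Γ)).subgroupOf F := by
    by_contra h
    push Not at h
    have h2 : ((centralizer (N : Set Γ)).subgroupOf F).index = 1 := by
      by_contra h2
      obtain ⟨r, hr, h3⟩ := Nat.exists_prime_and_dvd h2
      have := Fact.mk hr
      obtain ⟨P⟩ : Nonempty (Sylow r F) := inferInstance
      exact P.not_dvd_index (h3.trans (index_dvd_of_le (h r hr P)))
    exact h1 fun g hg => hc g hg fun f hf => subgroupOf_eq_top.1 (index_eq_one.1 h2) hf g hg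
  have := Fact.mk hr
  let R := (P : Subgroup F).map F.subtype
  have hR : ¬ R ≤ centralizer (N : Set Γ) := fun h => hP (map_le_iff_le_comap.1 h)
  have hRF : R ≤ F := map_subtype_le _
  have hRn : ∀ f ∈ F, ∀ x ∈ R, f * x * f⁻¹ ∈ R := by
    rintro f hf _ ⟨x, hx, rfl⟩
    exact ⟨_, (inferInstance : (P : Subgroup F).Normal).conj_mem x hx ⟨f, hf⟩, rfl⟩
  have hD : (N ⊔ R).Normal := ⟨fun x hx γ => by
    obtain ⟨n, hn, y, hy, rfl⟩ := mem_sup_of_normal_left.1 hx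
    obtain ⟨g, hg, f, hf, e⟩ := ht γ
    have h2 := mul_mem (mem_sup_left (T := R) (hN.conj_mem n hn γ)) (mul_mem (mul_mem (mem_sup_left hg)
      (mem_sup_right (hRn f hf y hy))) (mem_sup_left (N.inv_mem hg)))
    simpa [e, mul_assoc] using h2⟩
  have h2 : ∀ x ∈ N ⊔ R, ∃ k, x ^ r ^ k ∈ N := fun x hx => by
    obtain ⟨n, hn, y, hy, rfl⟩ := mem_sup_of_normal_left.1 hx
    obtain ⟨k, hk⟩ := P.2.map F.subtype ⟨y, hy⟩
    refine ⟨k, (QuotientGroup.eq_one_iff _).1 ?_⟩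
    have : y ^ r ^ k = 1 := congrArg Subtype.val hk
    rw [QuotientGroup.mk_pow, QuotientGroup.mk_mul, (QuotientGroup.eq_one_iff n).2 hn, one_mul,
      ← QuotientGroup.mk_pow, this, QuotientGroup.mk_one]
  have hA : ∀ T ≤ N ⊔ R, IsPGroup r T → (∀ x ∈ N ⊔ R, ∃ g ∈ N, g * x ∈ T) →
      Sup N F (normalizer (T : Set Γ)) → ¬ N ≤ normalizer (T : Set Γ) := by
    intro T h3 h4 h5 h6 h7
    have hT : T.Normal := normalizer_eq_top_iff.1 (eq_top_iff.2 fun x _ => by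
      obtain ⟨g, hg, f, hf, rfl⟩ := ht x
      obtain ⟨g1, hg1, h8⟩ := h6 f hf
      exact mul_mem (h7 hg) ((mul_mem_cancel_left (h7 hg1)).1 h8))
    rcases hm' (T ⊓ N) inferInstance inf_le_right with h8 | h8
    · have h9 : ¬ R ≤ T := fun h => hR fun x hx g hg =>
        (commute_of_normal_of_disjoint T N hT hN (disjoint_iff.2 h8) x g (h hx) hg).eq.symm
      obtain ⟨x, h10, h11, h12⟩ := core_cen hF hRF hRn h9
      obtain ⟨g, hg, h13⟩ := h5 x (mem_sup_right h10)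
      refine h11 ((T.mul_mem_cancel_left ((hc g hg fun f hf => ?_).symm ▸ T.one_mem)).1 h13)
      have h14 : g * f * g⁻¹ * f⁻¹ ∈ T ⊓ N := by
        refine ⟨(QuotientGroup.eq_one_iff _).1 ?_, by simpa [mul_assoc] using N.mul_mem hg (hN.conj_mem _ (N.inv_mem hg) f)⟩
        have e1 : (g : Γ ⧸ T) * x = 1 := (QuotientGroup.eq_one_iff _).2 h13
        have e2 : (x : Γ ⧸ T) * f * (x : Γ ⧸ T)⁻¹ * (f : Γ ⧸ T)⁻¹ = 1 := (QuotientGroup.eq_one_iff _).2 (h12 f hf)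
        change (g : Γ ⧸ T) * f * (g : Γ ⧸ T)⁻¹ * (f : Γ ⧸ T)⁻¹ = 1
        rw [mul_inv_eq_one, mul_inv_eq_iff_eq_mul] at e2
        rw [eq_inv_of_mul_eq_one_left e1, inv_inv, mul_assoc _ (f : Γ ⧸ T), ← e2]
        group
      rwa [h8, mem_bot, mul_inv_eq_one, mul_inv_eq_iff_eq_mul] at h14
    · have h9 : N ⊔ R ≤ T := fun x hx => by
        obtain ⟨g, hg, h⟩ := h5 x hx
        exact (T.mul_mem_cancel_left (h8 hg).1).1 h
      obtain ⟨x, h10, h11, h12⟩ := core_cen (K := ⊥) (h4.to_le h9).isNilpotent le_sup_left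
        (fun f _ x hx => hN.conj_mem x hx f) h1
      rcases hm' (N ⊓ centralizer (N ⊔ R : Subgroup Γ)) inferInstance inf_le_left with h13 | h13
      · refine h11 (h13 ▸ ⟨h10, fun f hf => ?_⟩)
        have := mem_bot.1 (h12 f hf)
        rw [mul_inv_eq_one, mul_inv_eq_iff_eq_mul] at this
        exact this.symm
      · exact hR fun x hx g hg => ((h13 hg).2 x (mem_sup_right hx)).symm
  rw [core_chain ih hF hc le_sup_left h2 ht hA hS h0, ← core_chain ih hF hc le_sup_left h2 ht hA (S := F)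
    (fun f hf => ⟨1, N.one_mem, by simpa using hf⟩)
    fun h => h1 fun x hx => core_disj hF (fun f _ x hx => hN.conj_mem x hx f) hc hx (h hx)]
  exact ⟨1, N.one_mem, fun f hf => by simpa using hf⟩

end step

theorem coreP (n : ℕ) : CoreP.{u} n := by
  induction n with
  | zero => intro _ _ _ _ _ _ h; exact absurd h (Nat.not_lt_zero _)
  | succ n ih =>
    intro Γ _ _ N F S h hF hn hc hS
    have h1 : F ≤ normalizer (N : Set Γ) := fun f hf => mem_normalizer_iff.2 fun x =>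
      ⟨hn f hf x, fun hx => by simpa [mul_assoc] using hn _ (F.inv_mem hf) _ hx⟩
    have h2 : (N.subgroupOf (N ⊔ F)).Normal := normal_subgroupOf_of_le_normalizer (sup_le le_normalizer h1)
    obtain ⟨g, hg, h3⟩ := core_step (N := N.subgroupOf (N ⊔ F)) (F := F.subgroupOf (N ⊔ F))
      (S := S.subgroupOf (N ⊔ F))
      (fun Γ _ _ N' F S h' => ih Γ N' F S (by
        rw [Nat.card_congr (subgroupOfEquivOfLe le_sup_left).toEquiv] at h'; omega))
      (Group.nilpotent_of_mulEquiv (subgroupOfEquivOfLe le_sup_right).symm)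
      (fun g hg h => Subtype.ext (hc g hg fun f hf => congrArg Subtype.val (h ⟨f, mem_sup_right hf⟩ hf)))
      (fun x => by
        have hx : (x : Γ) ∈ ((N ⊔ F : Subgroup Γ) : Set Γ) := x.2
        rw [coe_mul_of_right_le_normalizer_left N F h1] at hx
        obtain ⟨g, hg, f, hf, e⟩ := hx
        exact ⟨⟨g, mem_sup_left hg⟩, hg, ⟨f, mem_sup_right hf⟩, hf, Subtype.ext e.symm⟩)
      fun f hf => by
        obtain ⟨g, hg, h⟩ := hS f hf
        exact ⟨⟨g, mem_sup_left hg⟩, hg, h⟩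
    exact ⟨g, hg, fun f hf => h3 ⟨f, mem_sup_right hf⟩ hf⟩

theorem sup_good {Γ : Type u} [Group Γ] [Finite Γ] {N F S : Subgroup Γ} (hF : Group.IsNilpotent F)
    (hn : ∀ f ∈ F, ∀ g ∈ N, f * g * f⁻¹ ∈ N) (hc : ∀ g ∈ N, (∀ f ∈ F, g * f = f * g) → g = 1)
    (hS : Sup N F S) : Good N F S :=
  coreP _ Γ N F S (Nat.lt_succ_self _) hF hn hc hS

end Cfsg.Agent.NF
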