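import Cfsg.Agent.NF.ModA
import Cfsg.Agent.NF.Act

/-! Fixed points of the complement in a quotient are covered by fixed points. -/

set_option autoImplicit false

namespace Cfsg.Agent.NF

open Subgroup AH

universe u

/-- the covering property for `N` -/
def Cov {A G : Type*} [Group A] [Group G] (φ : A →* MulAut G) (H : Subgroup A) (N : Subgroup G) : Prop :=
  ∀ g : G, (∀ a ∈ H, g⁻¹ * φ a g ∈ N) → ∃ c ∈ Cf φ H, c⁻¹ * g ∈ N

variable {A : Type*} [Group A] [Finite A] {F H : Subgroup A}

theorem cov_step (h : Fr F H) {n : ℕ}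
    (ih : ∀ (G : Type u) [Group G] [Finite G] (φ : A →* MulAut G) (N : Subgroup G), N.Normal →
      Nat.card N < n → Inv φ N → Fpf φ F N → Cov φ H N)
    {G : Type u} [Group G] [Finite G] {φ : A →* MulAut G} {N V : Subgroup G} (hn : N.Normal)
    (hc : Nat.card N ≤ n) (hN : Inv φ N) (hf : Fpf φ F N) {p : ℕ} (hp : p.Prime) (hV : MI φ V p)
    (le : V ≤ N) : Cov φ H N := by
  have := hV.nm
  obtain ⟨ψ, hψ⟩ := exists_quot V hV.inv
  have hfV : Fpf φ F V := fun x hx => hf x (le hx)
  have mem : ∀ x : G, (x : G ⧸ V) ∈ N.map (QuotientGroup.mk' V) ↔ x ∈ N := fun x => by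
    have e := comap_map_eq_self (f := QuotientGroup.mk' V) (H := N) (by rwa [QuotientGroup.ker_mk'])
    conv_rhs => rw [← e]
    rfl
  have key := ih (G ⧸ V) ψ (N.map (QuotientGroup.mk' V)) (hn.map _ (QuotientGroup.mk'_surjective V))
    (by
      refine lt_of_lt_of_le ?_ hc
      let f := (QuotientGroup.mk' V).subgroupMap N
      have fs : Function.Surjective f := (QuotientGroup.mk' V).subgroupMap_surjective N
      refine lt_of_le_of_ne (Nat.card_le_card_of_surjective f fs) fun e => hV.ne ?_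
      have fi := ((Nat.bijective_iff_surjective_and_card f).2 ⟨fs, e.symm⟩).1
      refine eq_bot_iff.2 fun x hx => ?_
      exact congrArg Subtype.val ((injective_iff_map_eq_one f).1 fi ⟨x, le hx⟩
        (Subtype.ext ((QuotientGroup.eq_one_iff x).2 hx))))
    (by
      rintro a _ ⟨x, hx, rfl⟩
      rw [QuotientGroup.mk'_apply, hψ, mem]
      exact hN a x hx)
    (by
      rintro _ ⟨x, hx, rfl⟩ k
      obtain ⟨c, hc, e⟩ := coset h.nil (M := V) (g := x) (fun f _ => hV.inv f) hfV
        (fun f hf => QuotientGroup.eq.1 (by rw [← hψ]; exact (k f hf).symm))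
      have c1 : c = 1 := hf c (by simpa using mul_mem hx (inv_mem (le e))) hc
      rw [c1, inv_one, one_mul] at e
      exact (QuotientGroup.eq_one_iff x).2 e)
  intro g hg
  obtain ⟨c, hc, e⟩ := key g fun a ha => by
    rw [hψ, ← QuotientGroup.mk_inv, ← QuotientGroup.mk_mul, mem]
    exact hg a ha
  obtain ⟨c, rfl⟩ := QuotientGroup.mk_surjective c
  rw [← QuotientGroup.mk_inv, ← QuotientGroup.mk_mul, mem] at e
  obtain ⟨d, hd, e'⟩ := cover h hp hV hfV (g := c) fun a ha =>
    QuotientGroup.eq.1 (by rw [← hψ]; exact (hc a ha).symm)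
  exact ⟨d, hd, by simpa [mul_assoc] using mul_mem (le e') e⟩

theorem cov_all [F.Normal] (h : Fr F H) (n : ℕ) :
    ∀ (G : Type u) [Group G] [Finite G] (φ : A →* MulAut G) (N : Subgroup G), N.Normal →
      Nat.card N < n → Inv φ N → Fpf φ F N → Cov φ H N := by
  induction n with
  | zero => intro G _ _ φ N _ hc; omega
  | succ n ih =>
    intro G _ _ φ N hn hc hN hf g hg
    by_cases h0 : N = ⊥
    · refine ⟨g, fun a ha => ?_, by simp⟩
      have := hg a ha
      rw [h0, mem_bot, inv_mul_eq_one] at this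
      exact this.symm
    obtain ⟨p, hp, hd⟩ := Nat.exists_prime_and_dvd (n := Nat.card N) fun e => h0 (card_eq_one.1 e)
    have := Fact.mk hp
    obtain ⟨ψ, hψ⟩ := exists_sub N hN
    obtain ⟨P, hP, -⟩ := syl (φ := ψ) h.nil
      (fun x _ hx => Subtype.ext (hf x x.2 fun f k => by rw [← hψ, hx f k])) p
    have fr := Sylow.normalizer_sup_eq_top P
    set Q : Subgroup G := (P : Subgroup N).map N.subtype with hQ
    have iQ : Inv φ Q := by
      rintro a _ ⟨x, hx, rfl⟩
      exact ⟨ψ a x, hP a x hx, hψ a x⟩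
    have pQ : IsPGroup p Q := P.isPGroup'.map _
    have nQ : Q ≠ ⊥ := fun e =>
      P.ne_bot_of_dvd_card hd ((map_eq_bot_iff_of_injective _ N.subtype_injective).1 e)
    set M : Subgroup G := normalizer (Q : Set G) with hM
    obtain ⟨χ, hχ⟩ := exists_sub M iQ.normalizer
    obtain ⟨V, lV, hV⟩ := exists_MI (φ := χ) (N := Q.subgroupOf M) normal_in_normalizer
      (fun a x hx => by rw [mem_subgroupOf, hχ]; exact iQ a x hx)
      (fun e => nQ (by rw [subgroupOf_eq_bot] at e; exact e.eq_bot_of_le le_normalizer)) hp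
      (pQ.comap_of_injective _ M.subtype_injective)
    have key := cov_step h ih (φ := χ) (N := N.subgroupOf M) (hn.subgroupOf M)
      (Nat.le_of_lt_succ (lt_of_le_of_lt (by
        rw [← card_map_of_injective M.subtype_injective, subgroupOf_map_subtype]
        exact card_le_of_le inf_le_left) hc))
      (fun a x hx => by rw [mem_subgroupOf, hχ]; exact hN a x hx)
      (fun x hx k => Subtype.ext (hf x hx fun f e => by rw [← hχ, k f e])) hp hV
      (lV.trans (comap_mono (map_subtype_le _)))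
    obtain ⟨m, hm, y, hy, rfl⟩ := mem_sup_of_normal_right.1 (fr ▸ mem_top g : g ∈ M ⊔ N)
    obtain ⟨c, hc, e⟩ := key ⟨m, hm⟩ fun a ha => by
      rw [mem_subgroupOf, coe_mul, coe_inv, hχ]
      have := mul_mem (mul_mem hy (hg a ha)) (inv_mem (hN a y hy))
      simpa [mul_assoc] using this
    refine ⟨c, fun a ha => by rw [← hχ, hc a ha], ?_⟩
    rw [← mul_assoc]
    exact mul_mem e hy

end Cfsg.Agent.NF
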