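import Cfsg.Agent.AH.Defs

/-! Definitions for project NF (nilpotent fixed-point-free operator groups), see notes/NF.md. -/

set_option autoImplicit false

namespace Cfsg.Agent.NF

open Subgroup

variable {A G : Type*} [Group A] [Group G]

/-- `H` normalises the nilpotent group `F` and its non-identity elements act without fixed points on `F` -/
structure Fr (F H : Subgroup A) : Prop where
  nil : Group.IsNilpotent F
  nm : ∀ h ∈ H, ∀ f ∈ F, h * f * h⁻¹ ∈ F
  frob : ∀ h ∈ H, ∀ f ∈ F, h * f = f * h → h = 1 ∨ f = 1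

/-- invariant subgroup -/
def Inv (φ : A →* MulAut G) (K : Subgroup G) : Prop := ∀ a, ∀ x ∈ K, φ a x ∈ K

/-- `F` has no non-identity fixed point in `K` -/
def Fpf (φ : A →* MulAut G) (F : Subgroup A) (K : Subgroup G) : Prop :=
  ∀ x ∈ K, (∀ f ∈ F, φ f x = x) → x = 1

/-- fixed points of `H` -/
def Cf (φ : A →* MulAut G) (H : Subgroup A) : Subgroup G where
  carrier := {x | ∀ h ∈ H, φ h x = x}
  mul_mem' ha hb h hh := by rw [map_mul, ha h hh, hb h hh]
  one_mem' h _ := map_one _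
  inv_mem' ha h hh := by rw [map_inv, ha h hh]

theorem mem_Cf {φ : A →* MulAut G} {H : Subgroup A} {x : G} : x ∈ Cf φ H ↔ ∀ h ∈ H, φ h x = x := Iff.rfl

/-- minimal invariant normal subgroup, elementary abelian of exponent `p` -/
structure MI (φ : A →* MulAut G) (V : Subgroup G) (p : ℕ) : Prop where
  nm : V.Normal
  inv : Inv φ V
  ne : V ≠ ⊥
  comm : ∀ x ∈ V, ∀ y ∈ V, x * y = y * x
  exp : ∀ x ∈ V, x ^ p = 1
  min : ∀ L : Subgroup G, L.Normal → Inv φ L → L ≤ V → L = ⊥ ∨ L = V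

/-- `S` covers `F` modulo `N` -/
def Sup (N F S : Subgroup G) : Prop := ∀ f ∈ F, ∃ g ∈ N, g * f ∈ S

/-- `S` contains an `N`-conjugate of `F` -/
def Good (N F S : Subgroup G) : Prop := ∃ g ∈ N, ∀ f ∈ F, g * f * g⁻¹ ∈ S

end Cfsg.Agent.NF
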