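import Cfsg.Agent.NF.ModA
import Cfsg.Agent.NF.Act

/-! notes/NF.md, section Gen. -/

set_option autoImplicit false

namespace Cfsg.Agent.NF

open Subgroup AH

universe u

namespace Gen

variable {A : Type*} [Group A]

/-- the subgroup generated by the `F`-conjugates of the fixed points of `H` -/
def Cl {G : Type*} [Group G] (φ : A →* MulAut G) (F H : Subgroup A) : Subgroup G :=
  closure {x : G | ∃ f ∈ F, ∃ c ∈ Cf φ H, x = φ f c}

theorem mem_Cl {G : Type*} [Group G] {φ : A →* MulAut G} {F H : Subgroup A} {f : A} (hf : f ∈ F) {c : G}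
    (hc : c ∈ Cf φ H) : φ f c ∈ Cl φ F H := subset_closure ⟨f, hf, c, hc, rfl⟩

theorem inv_Cl {G : Type*} [Group G] {φ : A →* MulAut G} {F H : Subgroup A} (h : Fr F H)
    (hA : ∀ a : A, ∃ f ∈ F, ∃ h ∈ H, a = f * h) : Inv φ (Cl φ F H) := fun a x hx => by
  obtain ⟨f, hf, b, hb, rfl⟩ := hA a
  have : Cl φ F H ≤ (Cl φ F H).comap (φ (f * b)).toMonoidHom := by
    refine (closure_le _).2 ?_
    rintro _ ⟨e, he, c, hc, rfl⟩
    have e1 : φ (f * b) (φ e c) = φ (f * (b * e * b⁻¹)) (φ b c) := by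
      rw [← MulAut.mul_apply, ← MulAut.mul_apply, ← map_mul, ← map_mul]
      congr 2
      group
    change φ (f * b) (φ e c) ∈ Cl φ F H
    rw [e1, hc b hb]
    exact mem_Cl (mul_mem hf (h.nm b hb e he)) hc
  exact this hx

theorem inv_top {G : Type*} [Group G] (φ : A →* MulAut G) : Inv φ ⊤ := fun _ _ _ => mem_top _

theorem inv_center {G : Type*} [Group G] (φ : A →* MulAut G) : Inv φ (center G) := by
  have := (inv_top φ).centralizer
  rwa [coe_top, centralizer_univ] at this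

theorem pgroup [Finite A] {F H : Subgroup A} (h : Fr F H) (hA : ∀ a : A, ∃ f ∈ F, ∃ h ∈ H, a = f * h) {p : ℕ}
    (hp : p.Prime) (n : ℕ) : ∀ (G : Type u) [Group G] [Finite G] (φ : A →* MulAut G), Nat.card G = n →
      IsPGroup p G → Fpf φ F ⊤ → Cl φ F H = ⊤ := by
  induction n using Nat.strong_induction_on with
  | _ n ih =>
  intro G _ _ φ hn hG hf
  have := Fact.mk hp
  rcases subsingleton_or_nontrivial G with h0 | h0
  · exact Subsingleton.elim _ _
  have hZ : center G ≠ ⊥ := by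
    have := hG.center_nontrivial
    exact (nontrivial_iff_ne_bot _).1 this
  obtain ⟨V, hVZ, hV⟩ := exists_MI (φ := φ) (N := center G) inferInstance (inv_center φ) hZ hp (hG.to_subgroup _)
  have := hV.nm
  have hfV : Fpf φ F V := fun x _ => hf x (mem_top x)
  have hVK : V ≤ Cl φ F H := by
    obtain ⟨c, hc, h1, h2⟩ := cf_ne h hp hV hfV
    have h3 : c ∈ Cl φ F H := by simpa using mem_Cl (one_mem F) h2
    obtain h4 | h4 := hV.min (Cl φ F H ⊓ V) ⟨fun x hx g => by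
      rwa [mem_center_iff.1 (hVZ hx.2) g, mul_inv_cancel_right]⟩ ((inv_Cl h hA).inf hV.inv) inf_le_right
    · exact absurd (mem_bot.1 (h4 ▸ (⟨h3, hc⟩ : c ∈ Cl φ F H ⊓ V))) h1
    · exact inf_eq_right.1 h4
  obtain ⟨ψ, hψ⟩ := exists_quot V hV.inv
  have hlt : Nat.card (G ⧸ V) < n := by
    rw [← hn, ← V.index_mul_card]
    exact lt_mul_of_one_lt_right Nat.card_pos ((one_lt_card_iff_ne_bot V).2 hV.ne)
  have h1 := ih _ hlt (G ⧸ V) ψ rfl (hG.to_quotient V) (Fpf.quot h.nil hf hV.inv hψ)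
  have h2 : Cl ψ F H ≤ (Cl φ F H).map (QuotientGroup.mk' V) := by
    refine (closure_le _).2 ?_
    rintro _ ⟨f, hF, y, hy, rfl⟩
    obtain ⟨g, rfl⟩ := QuotientGroup.mk_surjective y
    obtain ⟨c, hc, h3⟩ := cover h hp hV hfV (g := g) fun a ha => by
      have := hy a ha
      rw [hψ] at this
      exact QuotientGroup.eq.1 this.symm
    rw [← QuotientGroup.eq.2 h3, hψ]
    exact ⟨φ f c, mem_Cl hF hc, rfl⟩
  rw [h1, top_le_iff] at h2
  have h3 := congrArg (comap (QuotientGroup.mk' V)) h2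
  rwa [comap_map_eq, QuotientGroup.ker_mk', sup_of_le_left hVK, comap_top] at h3

end Gen

theorem gen {A : Type*} {G : Type u} [Group A] [Group G] [Finite A] [Finite G] {φ : A →* MulAut G}
    {F H : Subgroup A} [F.Normal] (h : Fr F H) (hA : ∀ a : A, ∃ f ∈ F, ∃ h ∈ H, a = f * h)
    (hf : Fpf φ F ⊤) : closure {x : G | ∃ f ∈ F, ∃ c ∈ Cf φ H, x = φ f c} = ⊤ := by
  change Gen.Cl φ F H = ⊤
  rw [← index_eq_one]
  refine Nat.eq_one_iff_not_exists_prime_dvd.2 fun p hp hd => ?_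
  have := Fact.mk hp
  obtain ⟨P, hP, -⟩ := syl h.nil hf p
  obtain ⟨ψ, hψ⟩ := exists_sub (P : Subgroup G) hP
  have h1 := Gen.pgroup h hA hp _ P ψ rfl P.isPGroup' fun x _ hx =>
    Subtype.ext (hf x (mem_top _) fun f hF => by rw [← hψ, hx f hF])
  have h2 : Gen.Cl ψ F H ≤ (Gen.Cl φ F H).comap (P : Subgroup G).subtype := by
    refine (closure_le _).2 ?_
    rintro _ ⟨f, hF, c, hc, rfl⟩
    change ((ψ f c : (P : Subgroup G)) : G) ∈ Gen.Cl φ F H
    rw [hψ]
    exact Gen.mem_Cl hF fun a ha => by rw [← hψ, hc a ha]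
  have h3 : (P : Subgroup G) ≤ Gen.Cl φ F H := fun x hx => h2 (h1 ▸ mem_top (⟨x, hx⟩ : (P : Subgroup G)))
  exact P.not_dvd_index (hd.trans (index_dvd_of_le h3))

end Cfsg.Agent.NF
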