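import Cfsg.Agent.NF.Bas

/-! Project NF: vanishing of `H¹` and a non-zero trace. -/

set_option autoImplicit false

namespace Cfsg.Agent.NF

open Subgroup AH

universe u

theorem ModA_bij {H X : Type*} [Group H] [MulAction H X] (hf : ∀ (h : H) (x : X), h • x = x → h = 1) :
    Function.Bijective fun p : H × Quotient (MulAction.orbitRel H X) => p.1 • p.2.out := by
  refine ⟨fun ⟨a, q⟩ ⟨b, r⟩ e => ?_, fun x => ?_⟩
  · have e1 : a • q.out = b • r.out := e
    have e2 : q = r := by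
      rw [← q.out_eq, ← r.out_eq]
      exact Quotient.sound ⟨a⁻¹ * b, by simp only [mul_smul, ← e1, inv_smul_smul]⟩
    subst e2
    have e3 := hf (b⁻¹ * a) q.out (by rw [mul_smul, e1, inv_smul_smul])
    rw [inv_mul_eq_one.1 e3]
  · obtain ⟨a, ha⟩ : x ∈ MulAction.orbit H (Quotient.mk (MulAction.orbitRel H X) x).out :=
      Quotient.exact (Quotient.mk (MulAction.orbitRel H X) x).out_eq.symm
    exact ⟨(a, _), ha⟩

section
variable {A W k : Type*} [Group A] [Finite A] [CommRing k] [AddCommGroup W] [Module k W]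
  {ρ : A →* (W ≃ₗ[k] W)} {F H : Subgroup A}

omit [Finite A] in
theorem ModA_fix (K : Subgroup A) [Fintype K] (w : W) {a : A} (ha : a ∈ K) :
    ρ a (∑ b : K, ρ b w) = ∑ b : K, ρ b w := by
  rw [map_sum]
  exact Fintype.sum_equiv (Equiv.mulLeft (⟨a, ha⟩ : K)) _ _ fun b => by
    rw [Equiv.coe_mulLeft, coe_mul, map_mul, LinearEquiv.mul_apply]

/-- `H¹(H, W) = 0` -/
theorem h_one (h : Fr F H) (hf : ∀ w, (∀ f ∈ F, ρ f w = w) → w = 0) (c : A → W)
    (hc : ∀ a ∈ H, ∀ b ∈ H, c (a * b) = c a + ρ a (c b)) : ∃ w, ∀ a ∈ H, c a = w - ρ a w := by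
  classical
  have := Fintype.ofFinite F
  have := Fintype.ofFinite H
  let _ : MulAction H {x : F // x ≠ 1} :=
    { smul := fun a x => ⟨⟨a * x.1 * (a : A)⁻¹, h.nm a a.2 _ x.1.2⟩, fun e =>
        x.2 (Subtype.ext (conj_eq_one_iff.1 (congrArg Subtype.val e)))⟩
      one_smul := fun x => Subtype.ext (Subtype.ext (show ((1 : H) : A) * x.1 * ((1 : H) : A)⁻¹ = x.1 by simp))
      mul_smul := fun a b x => Subtype.ext (Subtype.ext
        (show ((a * b : H) : A) * x.1 * ((a * b : H) : A)⁻¹ = a * (b * x.1 * (b : A)⁻¹) * (a : A)⁻¹ by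
          rw [coe_mul]; group)) }
  have hs : ∀ (a : H) (x : {x : F // x ≠ 1}), ((a • x).1 : A) = a * x.1 * (a : A)⁻¹ := fun _ _ => rfl
  have hb := ModA_bij (H := H) (X := {x : F // x ≠ 1}) fun a x e => by
    have e1 : (a : A) * x.1 * (a : A)⁻¹ = x.1 := (hs a x).symm.trans (congrArg (fun y => (y.1 : A)) e)
    exact Subtype.ext ((h.frob a a.2 _ x.1.2 (mul_inv_eq_iff_eq_mul.1 e1)).resolve_right
      fun e2 => x.2 (Subtype.ext e2))
  have := Fintype.ofFinite (Quotient (MulAction.orbitRel H {x : F // x ≠ 1}))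
  let θ : H → W → W := fun b u => ∑ q : Quotient (MulAction.orbitRel H {x : F // x ≠ 1}), ρ ((b • q.out).1 : A) u
  have t1 : ∀ u, ∑ b, θ b u = -u := fun u => by
    have e1 := hf _ fun f hf => ModA_fix (ρ := ρ) F u hf
    rw [Fintype.sum_eq_add_sum_subtype_ne _ 1, coe_one, map_one, LinearEquiv.coe_one, id,
      ← hb.sum_comp fun x => ρ (x.1 : A) u, Fintype.sum_prod_type] at e1
    exact eq_neg_of_add_eq_zero_right e1
  have t2 : ∀ (a b : H) (u : W), ρ a (θ b u) = θ (a * b) (ρ a u) := fun a b u => by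
    rw [map_sum]
    refine Finset.sum_congr rfl fun q _ => ?_
    rw [← LinearEquiv.mul_apply, ← LinearEquiv.mul_apply, ← map_mul, ← map_mul, mul_smul, hs a,
      inv_mul_cancel_right]
  have t3 : ∀ (b : H) (u v : W), θ b (u + v) = θ b u + θ b v := fun b u v => by
    simp only [θ, map_add, Finset.sum_add_distrib]
  refine ⟨-∑ b, θ b (c b), fun a ha => ?_⟩
  have e1 : ∑ b : H, θ b (c b) = ∑ b : H, θ (⟨a, ha⟩ * b) (c (a * b)) :=
    (Fintype.sum_equiv (Equiv.mulLeft (⟨a, ha⟩ : H)) _ _ fun _ => rfl).symm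
  have e2 : ∑ b : H, θ (⟨a, ha⟩ * b) (c a) = -c a :=
    (Fintype.sum_equiv (Equiv.mulLeft (⟨a, ha⟩ : H)) _ _ fun _ => rfl).trans (t1 (c a))
  have e3 : ∑ b : H, θ b (c b) = -c a + ρ a (∑ b : H, θ b (c b)) := by
    rw [map_sum, ← e2, ← Finset.sum_add_distrib, e1]
    exact Finset.sum_congr rfl fun b _ => by rw [hc a ha b b.2, t3, ← t2 ⟨a, ha⟩ b]
  rw [map_neg, sub_neg_eq_add, neg_add_eq_sub, eq_sub_iff_add_eq]
  exact (neg_add_eq_iff_eq_add.1 e3.symm).symm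

/-- the Sylow subgroups of `F` -/
theorem ModA_syl (h : Fr F H) {q : ℕ} (hq : q.Prime) : ∃ E ≤ F, IsPGroup q E ∧
    (∀ a ∈ H, ∀ e ∈ E, a * e * a⁻¹ ∈ E) ∧ ¬ q ∣ E.relIndex F := by
  have := Fact.mk hq
  have := h.nil
  obtain ⟨E⟩ : Nonempty (Sylow q F) := inferInstance
  have hE : (E : Subgroup F).Normal := Sylow.normal_of_normalizerCondition Group.normalizerCondition_of_isNilpotent E
  have := Sylow.unique_of_normal E hE
  refine ⟨(E : Subgroup F).map F.subtype, map_subtype_le _, E.isPGroup'.map _, ?_, ?_⟩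
  · rintro a ha _ ⟨e, he, rfl⟩
    obtain ⟨m, hm⟩ := E.isPGroup' ⟨e, he⟩
    have h1 : (e : A) ^ q ^ m = 1 := congrArg (fun x => ((x : (E : Subgroup F)) : A)) hm
    have h2 : (⟨a * e * a⁻¹, h.nm a ha _ e.2⟩ : F) ^ q ^ m = 1 := Subtype.ext (by
      rw [coe_pow, conj_pow, h1]; simp)
    obtain ⟨j, -, hj⟩ := (Nat.dvd_prime_pow hq).1 (orderOf_dvd_of_pow_eq_one h2)
    obtain ⟨R, hR⟩ := (IsPGroup.of_card ((Nat.card_zpowers _).trans hj)).exists_le_sylow
    exact ⟨_, Subsingleton.elim R E ▸ hR (mem_zpowers _), rfl⟩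
  · rw [relIndex, subgroupOf, comap_map_eq_self_of_injective F.subtype_injective]
    exact E.not_dvd_index

end

/-- the trace of `H` is not zero -/
theorem tr_ne {A W : Type*} [Group A] [Finite A] {p : ℕ} [Fact p.Prime] [AddCommGroup W] [Module (ZMod p) W]
    [Finite W] {ρ : A →* (W ≃ₗ[ZMod p] W)} {F H : Subgroup A} [Fintype H] (h : Fr F H)
    {U : Submodule (ZMod p) W} (h0 : U ≠ ⊥) (hF : ∀ f ∈ F, ∀ u ∈ U, ρ f u ∈ U) (hH : ∀ a ∈ H, ∀ u ∈ U, ρ a u ∈ U)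
    (hf : ∀ u ∈ U, (∀ f ∈ F, ρ f u = u) → u = 0) : ∃ w ∈ U, ∑ a : H, ρ a w ≠ 0 := by
  classical
  have hp : p.Prime := Fact.out
  obtain ⟨P, P1, P2, -, P3⟩ := ModA_syl h hp
  obtain ⟨u, hu, u0, uP⟩ : ∃ u ∈ U, u ≠ 0 ∧ ∀ x ∈ P, ρ x u = u := by
    let _ : MulAction P U :=
      { smul := fun x u => ⟨ρ x u, hF x (P1 x.2) u u.2⟩
        one_smul := fun u => Subtype.ext (show ρ ((1 : P) : A) u = u by simp)
        mul_smul := fun x y u => Subtype.ext (show ρ ((x * y : P) : A) u = ρ x (ρ y u) by simp) }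
    obtain ⟨v, hv, v0⟩ := U.exists_mem_ne_zero_of_ne_bot h0
    have h1 : addOrderOf (⟨v, hv⟩ : U) = p := addOrderOf_eq_prime
      (by rw [← Nat.cast_smul_eq_nsmul (ZMod p), ZMod.natCast_self, zero_smul]) fun e => v0 (congrArg Subtype.val e)
    obtain ⟨b, hb, b0⟩ := P2.exists_fixed_point_of_prime_dvd_card_of_fixed_point U
      (h1.symm.dvd.trans (addOrderOf_dvd_natCard _))
      (a := 0) fun x => Subtype.ext (map_zero (ρ x))
    exact ⟨b, b.2, fun e => b0 (Subtype.ext e.symm), fun x hx => congrArg Subtype.val (hb ⟨x, hx⟩)⟩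
  let S : Subgroup A := (MulAction.stabilizer (W ≃ₗ[ZMod p] W) u).comap ρ
  obtain ⟨q, hq, q1⟩ := Nat.exists_prime_and_dvd (n := S.relIndex F) fun e =>
    u0 (hf u hu fun f hf => relIndex_eq_one.1 e hf)
  have qp : q ≠ p := fun e => P3 (e ▸ q1.trans (relIndex_dvd_of_le_left F (show P ≤ S from uP)))
  obtain ⟨E, E1, E2, E3, E4⟩ := ModA_syl h hq
  obtain ⟨e0, he0, e1⟩ : ∃ e ∈ E, ρ e u ≠ u := by
    by_contra! e
    exact E4 (q1.trans (relIndex_dvd_of_le_left F (show E ≤ S from e)))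
  have := Fintype.ofFinite E
  have hv : ρ e0 u - u ∈ U := sub_mem (hF e0 (E1 he0) u hu) hu
  have hN : ∑ e : E, ρ e (ρ e0 u - u) = 0 := by
    simp only [map_sub, Finset.sum_sub_distrib]
    refine sub_eq_zero.2 (Fintype.sum_equiv (Equiv.mulRight (⟨e0, he0⟩ : E)) _ _ fun e => ?_)
    rw [Equiv.coe_mulRight, coe_mul, map_mul, LinearEquiv.mul_apply]
  have v0 := sub_ne_zero.2 e1
  generalize ρ e0 u - u = v at hv hN v0
  by_contra! hz
  have s1 : ∑ e : E, ∑ a : H, ρ (e * a * (e : A)⁻¹) v = 0 := Finset.sum_eq_zero fun e _ => by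
    have := congrArg (ρ e) (hz _ (hF _ (E1 (inv_mem e.2)) v hv))
    rw [map_sum, map_zero] at this
    simpa only [map_mul, LinearEquiv.mul_apply] using this
  rw [Finset.sum_comm, Finset.sum_eq_single (1 : H) (fun a _ ha => ?_) fun h => absurd (Finset.mem_univ _) h] at s1
  · simp only [coe_one, mul_one, mul_inv_cancel, map_one, LinearEquiv.coe_one, id, Finset.sum_const,
      Finset.card_univ] at s1
    have := Fact.mk hq
    obtain ⟨m, hm⟩ := E2.exists_card_eq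
    rw [← Nat.card_eq_fintype_card, hm, ← Nat.cast_smul_eq_nsmul (ZMod p), smul_eq_zero,
      ZMod.natCast_eq_zero_iff] at s1
    exact qp ((Nat.prime_dvd_prime_iff_eq hp hq).1 (hp.dvd_of_dvd_pow (s1.resolve_right v0))).symm
  · let f : E → E := fun e => ⟨(a : A)⁻¹ * e * (a : A)⁻¹⁻¹ * (e : A)⁻¹, mul_mem (E3 _ (inv_mem a.2) _ e.2) (inv_mem e.2)⟩
    have hi : Function.Injective f := fun e e' h1 => by
      have h2 : (a : A)⁻¹ * e * (a : A)⁻¹⁻¹ * (e : A)⁻¹ = (a : A)⁻¹ * e' * (a : A)⁻¹⁻¹ * (e' : A)⁻¹ :=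
        congrArg Subtype.val h1
      have h3 := h.frob a a.2 _ (E1 (mul_mem (inv_mem e'.2) e.2)) (by
        calc (a : A) * ((e' : A)⁻¹ * e) = (e' : A)⁻¹ * a * ((a : A)⁻¹ * e' * (a : A)⁻¹⁻¹ * (e' : A)⁻¹) * e := by group
          _ = _ := by rw [← h2]; group)
      exact Subtype.ext (inv_mul_eq_one.1 (h3.resolve_left fun e => ha (Subtype.ext e))).symm
    have h4 := congrArg (ρ a) hN
    rw [← (Finite.injective_iff_bijective.1 hi).sum_comp fun e : E => ρ e v, map_sum, map_zero] at h4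
    rw [← h4]
    refine Finset.sum_congr rfl fun e _ => ?_
    rw [← LinearEquiv.mul_apply, ← map_mul]
    congr 2
    simp only [f]
    group

variable {A G : Type*} [Group A] [Group G] [Finite A] [Finite G] {φ : A →* MulAut G} {F H : Subgroup A}
  {V : Subgroup G} {p : ℕ}

omit [Finite A] [Finite G] in
theorem ModA_zero {k W : Type*} [CommRing k] [AddCommGroup W] [Module k W] {ι : W → G} {σ : G →* (W ≃ₗ[k] W)}
    (hR : Rp V ι σ) {w : W} : ι w = 1 ↔ w = 0 := by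
  have h0 : ι 0 = 1 := by
    have := hR.add 0 0
    rw [add_zero] at this
    exact left_eq_mul.1 this
  exact ⟨fun e => hR.inj (e.trans h0.symm), fun e => e ▸ h0⟩

set_option linter.unusedSectionVars false in
theorem cover (h : Fr F H) (hp : p.Prime) (hV : MI φ V p) (hf : Fpf φ F V) {g : G}
    (hg : ∀ a ∈ H, g⁻¹ * φ a g ∈ V) : ∃ c ∈ Cf φ H, c⁻¹ * g ∈ V := by
  have := Fact.mk hp
  obtain ⟨W, _, _, ι, σ, ρ, hR, hρ⟩ := exists_rep2 V hV.nm hV.inv p hV.comm hV.exp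
  choose! c hc using fun a ha => (hR.mem _).1 (hg a ha)
  obtain ⟨w, hw⟩ := h_one (ρ := ρ) h (fun w hw => (ModA_zero hR).1 (hf _ ((hR.mem _).2 ⟨w, rfl⟩) fun f hf => by
    rw [← hρ, hw f hf])) c fun a ha b hb => hR.inj (by
      rw [hR.add, hρ, hc a ha, hc b hb, hc _ (mul_mem ha hb), map_mul, map_mul, map_inv, MulAut.mul_apply]
      group)
  refine ⟨g * ι w, fun a ha => ?_, ?_⟩
  · have e := congrArg ι (eq_sub_iff_add_eq.1 (hw a ha))
    rw [hR.add, hρ, hc a ha] at e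
    rw [map_mul, ← inv_mul_eq_iff_eq_mul, ← mul_assoc, e]
  · rw [mul_inv_rev, inv_mul_cancel_right]
    exact inv_mem ((hR.mem _).2 ⟨w, rfl⟩)

theorem cf_ne (h : Fr F H) (hp : p.Prime) (hV : MI φ V p) (hf : Fpf φ F V) :
    ∃ c ∈ V, c ≠ 1 ∧ c ∈ Cf φ H := by
  have := Fact.mk hp
  have := Fintype.ofFinite H
  obtain ⟨W, _, _, ι, σ, ρ, hR, hρ⟩ := exists_rep2 V hV.nm hV.inv p hV.comm hV.exp
  have : Finite W := .of_injective ι hR.inj
  obtain ⟨x, hx, x1⟩ := V.bot_or_exists_ne_one.resolve_left hV.ne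
  obtain ⟨v, rfl⟩ := (hR.mem x).1 hx
  obtain ⟨w, -, hw⟩ := tr_ne (ρ := ρ) h (U := ⊤)
    (fun e => x1 ((ModA_zero hR).2 ((Submodule.mem_bot _).1 (e ▸ Submodule.mem_top)))) (fun _ _ _ _ => trivial)
    (fun _ _ _ _ => trivial) fun w _ hw => (ModA_zero hR).1 (hf _ ((hR.mem _).2 ⟨w, rfl⟩) fun f hf => by
      rw [← hρ, hw f hf])
  exact ⟨_, (hR.mem _).2 ⟨_, rfl⟩, fun e => hw ((ModA_zero hR).1 e), fun a ha => by rw [← hρ, ModA_fix H w ha]⟩

end Cfsg.Agent.NF
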