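import Cfsg.Agent.NF.ModA

/-! Project NF: an abelian group acting coprimely on a module together with a Frobenius group. -/

set_option autoImplicit false
set_option linter.unusedSectionVars false

namespace Cfsg.Agent.NF

open Subgroup AH

universe u

namespace ModB

variable {A Q W : Type*} [Group A] [Finite A] [Group Q] [Finite Q] {p : ℕ} [Fact p.Prime] [AddCommGroup W]
  [Module (ZMod p) W] {φ : A →* MulAut Q} {σ : Q →* (W ≃ₗ[ZMod p] W)} {ρ : A →* (W ≃ₗ[ZMod p] W)}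
  {B : Subgroup Q}

theorem phi_inv (φ : A →* MulAut Q) (a : A) (x : Q) : φ a (φ a⁻¹ x) = x := by
  rw [map_inv, MulAut.apply_inv_self]

theorem phi_inv' (φ : A →* MulAut Q) (a : A) (x : Q) : φ a⁻¹ (φ a x) = x := by
  rw [map_inv, MulAut.inv_apply_self]

theorem rho_mul {M : Type*} [Group M] (ρ : M →* (W ≃ₗ[ZMod p] W)) (a b : M) (w : W) :
    ρ a (ρ b w) = ρ (a * b) w := by rw [map_mul]; rfl

theorem rho_inv (ρ : A →* (W ≃ₗ[ZMod p] W)) (a : A) (w : W) : ρ a (ρ a⁻¹ w) = w := by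
  rw [rho_mul, mul_inv_cancel, map_one]; rfl

theorem rho_inv' (ρ : A →* (W ≃ₗ[ZMod p] W)) (a : A) (w : W) : ρ a⁻¹ (ρ a w) = w := by
  rw [rho_mul, inv_mul_cancel, map_one]; rfl

/-- the stabiliser of a subgroup -/
def St (φ : A →* MulAut Q) (B : Subgroup Q) : Subgroup A where
  carrier := {a | ∀ x, φ a x ∈ B ↔ x ∈ B}
  mul_mem' := fun {a b} ha hb x => by rw [map_mul]; exact (ha _).trans (hb x)
  one_mem' := fun x => by rw [map_one]; rfl
  inv_mem' := fun {a} ha x => by rw [← ha, phi_inv]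

theorem mem_St {a : A} (h : ∀ x ∈ B, φ a x ∈ B) : a ∈ St φ B := fun x => by
  refine ⟨fun hx => ?_, h x⟩
  have h1 : Function.Injective (fun y : B => (⟨φ a y, h y y.2⟩ : B)) := fun y z e =>
    Subtype.ext ((φ a).injective (congrArg Subtype.val e))
  obtain ⟨y, hy⟩ := Finite.surjective_of_injective h1 ⟨_, hx⟩
  rw [← (φ a).injective (congrArg Subtype.val hy)]
  exact y.2

/-- the fixed space -/
def VB (σ : Q →* (W ≃ₗ[ZMod p] W)) (B : Subgroup Q) : Submodule (ZMod p) W where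
  carrier := {w | ∀ x ∈ B, σ x w = w}
  add_mem' ha hb x hx := by rw [map_add, ha x hx, hb x hx]
  zero_mem' x _ := map_zero _
  smul_mem' c v hv x hx := by rw [map_smul, hv x hx]

/-- the stabiliser of a vector -/
def SV (σ : Q →* (W ≃ₗ[ZMod p] W)) (w : W) : Subgroup Q where
  carrier := {x | σ x w = w}
  mul_mem' := fun {a b} ha hb => by
    change σ (a * b) w = w
    rw [← rho_mul, hb, ha]
  one_mem' := by
    change σ 1 w = w
    rw [map_one]; rfl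
  inv_mem' := fun {a} ha => by
    change σ a⁻¹ w = w
    conv_lhs => rw [← show σ a w = w from ha]
    rw [rho_mul, inv_mul_cancel, map_one]; rfl

/-- the trace of `B` -/
noncomputable def eB (σ : Q →* (W ≃ₗ[ZMod p] W)) (B : Subgroup Q) [Fintype B] : W →ₗ[ZMod p] W :=
  ∑ x : B, (σ x : W →ₗ[ZMod p] W)

variable [Fintype B]

theorem eB_apply (w : W) : eB σ B w = ∑ x : B, σ x w := by simp [eB]

theorem eB_fix {w : W} (hw : w ∈ VB σ B) : eB σ B w = (Nat.card B : ZMod p) • w := by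
  rw [eB_apply, Finset.sum_congr rfl fun (x : B) _ => hw x x.2, Finset.sum_const, Finset.card_univ,
    Nat.card_eq_fintype_card, Nat.cast_smul_eq_nsmul]

theorem eB_mem (w : W) : eB σ B w ∈ VB σ B := fun y hy => by
  rw [eB_apply, map_sum]
  exact Fintype.sum_equiv (Equiv.mulLeft (⟨y, hy⟩ : B)) _ _ fun x => rho_mul σ _ _ w

theorem eB_comm (hQ : ∀ x y : Q, x * y = y * x) (c : Q) (w : W) : σ c (eB σ B w) = eB σ B (σ c w) := by
  rw [eB_apply, eB_apply, map_sum]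
  exact Finset.sum_congr rfl fun x _ => by rw [rho_mul, rho_mul, hQ]

theorem eB_zero (hQ : ∀ x y : Q, x * y = y * x) (hσ : ∀ a x w, ρ a (σ x w) = σ (φ a x) (ρ a w))
    (hmax : ∀ B' : Subgroup Q, B ≤ B' → (∃ w, w ≠ 0 ∧ ∀ x ∈ B', σ x w = w) → B' = B)
    {w : W} (hw : w ∈ VB σ B) {a : A} (ha : a ∉ St φ B) : eB σ B (ρ a w) = 0 := by
  by_contra h0
  have h1 := hmax (SV σ (eB σ B (ρ a w))) (eB_mem _) ⟨_, h0, fun x hx => hx⟩
  refine ha (mem_St fun x hx => h1.le ?_)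
  change σ _ _ = _
  rw [eB_comm hQ, ← hσ, hw x hx]

omit [Fintype B] in
theorem st_mem (hσ : ∀ a x w, ρ a (σ x w) = σ (φ a x) (ρ a w)) {w : W} (hw : w ∈ VB σ B) {a : A}
    (ha : a ∈ St φ B) : ρ a w ∈ VB σ B := fun y hy => by
  rw [← phi_inv φ a y, ← hσ, hw _ ((inv_mem ha y).2 hy)]

end ModB

open ModB

theorem qfh {A Q W : Type*} [Group A] [Finite A] [Group Q] [Finite Q] {p : ℕ} [Fact p.Prime] [AddCommGroup W]
    [Module (ZMod p) W] [Finite W] [Nontrivial W] {φ : A →* MulAut Q} {σ : Q →* (W ≃ₗ[ZMod p] W)}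
    {ρ : A →* (W ≃ₗ[ZMod p] W)} {F H : Subgroup A} (h : Fr F H) (hQ : ∀ x y : Q, x * y = y * x)
    (hc : ¬ p ∣ Nat.card Q) (hσ : ∀ a x w, ρ a (σ x w) = σ (φ a x) (ρ a w))
    (hf : ∀ w, (∀ f ∈ F, ρ f w = w) → w = 0) {c : Q} (hcH : c ∈ Cf φ H)
    (hcW : ∀ w, (∀ a ∈ H, ρ a w = w) → σ c w = w) {B : Subgroup Q} (hB : ∃ w, w ≠ 0 ∧ ∀ x ∈ B, σ x w = w)
    (hmax : ∀ B' : Subgroup Q, B ≤ B' → (∃ w, w ≠ 0 ∧ ∀ x ∈ B', σ x w = w) → B' = B) : c ∈ B := by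
  classical
  have _ := hcH
  have : Fintype B := Fintype.ofFinite _
  have : Fintype F := Fintype.ofFinite _
  have : Fintype H := Fintype.ofFinite _
  have : Fintype (H ⊓ St φ B : Subgroup A) := Fintype.ofFinite _
  have hb : (Nat.card B : ZMod p) ≠ 0 := fun e =>
    hc (((ZMod.natCast_eq_zero_iff _ p).1 e).trans (card_subgroup_dvd_card B))
  have h1 : ∀ w ∈ VB σ B, (∀ f ∈ F ⊓ St φ B, ρ f w = w) → w = 0 := by
    intro w hw hfix
    let O : Finset W := Finset.univ.image fun f : F => ρ f w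
    have hO : ∀ g ∈ F, ∀ x ∈ O, ρ g x ∈ O := fun g hg x hx => by
      obtain ⟨f, -, rfl⟩ := Finset.mem_image.1 hx
      exact Finset.mem_image.2 ⟨⟨g, hg⟩ * f, Finset.mem_univ _, (rho_mul ρ _ _ w).symm⟩
    have h2 : ∑ x ∈ O, x = 0 := hf _ fun g hg => by
      rw [map_sum]
      exact Finset.sum_nbij' (ρ g) (ρ g⁻¹) (hO g hg) (hO _ (inv_mem hg)) (fun x _ => rho_inv' ρ g x)
        (fun x _ => rho_inv ρ g x) fun _ _ => rfl
    have h3 := congrArg (eB σ B) h2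
    rw [map_sum, map_zero, Finset.sum_eq_single_of_mem w (Finset.mem_image.2 ⟨1, Finset.mem_univ _, by simp⟩),
      eB_fix hw] at h3
    · exact (smul_eq_zero.1 h3).resolve_left hb
    · intro x hx hne
      obtain ⟨f, -, rfl⟩ := Finset.mem_image.1 hx
      exact eB_zero hQ hσ hmax hw fun e => hne (hfix f ⟨f.2, e⟩)
  obtain ⟨w, hw, h2⟩ := tr_ne (ρ := ρ) (h.mono (F' := F ⊓ St φ B) (H' := H ⊓ St φ B) inf_le_left inf_le_left
      fun a ha f hf => ⟨h.nm a ha.1 f hf.1,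
        (St φ B).mul_mem ((St φ B).mul_mem ha.2 hf.2) ((St φ B).inv_mem ha.2)⟩) (U := VB σ B)
    (let ⟨w, h0, hw⟩ := hB; (Submodule.ne_bot_iff _).2 ⟨w, hw, h0⟩)
    (fun f hf u hu => st_mem hσ hu hf.2) (fun f hf u hu => st_mem hσ hu hf.2) h1
  have h3 : ∑ a : (H ⊓ St φ B : Subgroup A), ρ a w ∈ VB σ B :=
    Submodule.sum_mem _ fun a _ => st_mem hσ hw a.2.2
  have h4 : eB σ B (∑ a : (H ⊓ St φ B : Subgroup A), ρ a w) = eB σ B (∑ a : H, ρ a w) := by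
    rw [map_sum, map_sum]
    exact Fintype.sum_of_injective (inclusion (inf_le_left : H ⊓ St φ B ≤ H)) (inclusion_injective _) _ _
      (fun a ha => eB_zero hQ hσ hmax hw fun e => ha ⟨⟨a, a.2, e⟩, rfl⟩) fun _ => rfl
  have h5 := hcW (∑ a : H, ρ a w) fun g hg => by
    rw [map_sum]
    exact Fintype.sum_equiv (Equiv.mulLeft (⟨g, hg⟩ : H)) _ _ fun x => rho_mul ρ _ _ w
  have h6 := eB_comm (σ := σ) (B := B) hQ c (∑ a : H, ρ a w)
  rw [h5, ← h4, eB_fix h3, map_smul] at h6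
  exact (hmax (SV σ _) h3 ⟨_, h2, fun x hx => hx⟩).le (smul_right_injective W hb h6)

theorem qfh' {A Q W : Type*} [Group A] [Finite A] [Group Q] [Finite Q] {p : ℕ} [Fact p.Prime] [AddCommGroup W]
    [Module (ZMod p) W] [Finite W] [Nontrivial W] {φ : A →* MulAut Q} {σ : Q →* (W ≃ₗ[ZMod p] W)}
    {ρ : A →* (W ≃ₗ[ZMod p] W)} {F H : Subgroup A} (h : Fr F H) (hQ : ∀ x y : Q, x * y = y * x)
    (hc : ¬ p ∣ Nat.card Q) (hσ : ∀ a x w, ρ a (σ x w) = σ (φ a x) (ρ a w))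
    (hf : ∀ w, (∀ f ∈ F, ρ f w = w) → w = 0) (h0 : ∀ w, (∀ x, σ x w = w) → w = 0)
    (hI : ∀ K : Subgroup Q, Inv φ K → K = ⊥ ∨ K = ⊤) {c : Q} (hcH : c ∈ Cf φ H)
    (hcW : ∀ w, (∀ a ∈ H, ρ a w = w) → σ c w = w) : c = 1 := by
  let P : Subgroup Q → Prop := fun B => ∃ w, w ≠ 0 ∧ ∀ x ∈ B, σ x w = w
  have hP : ∀ (a : A) (B : Subgroup Q), P B → P (B.comap (φ a).toMonoidHom) := by
    rintro a B ⟨w, h1, h2⟩
    refine ⟨ρ a⁻¹ w, fun e => h1 ((ρ a⁻¹).map_eq_zero_iff.1 e), fun x hx => (ρ a).injective ?_⟩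
    rw [hσ, rho_inv]
    exact h2 _ hx
  let K : Subgroup Q := sInf {B | P B ∧ ∀ B', B ≤ B' → P B' → B' = B}
  have hK : Inv φ K := fun a x hx => mem_sInf.2 fun B hB =>
    mem_sInf.1 hx (B.comap (φ a).toMonoidHom) ⟨hP a B hB.1, fun B' h1 h2 => le_antisymm (fun y hy => by
      have h3 := hB.2 (B'.comap (φ a⁻¹).toMonoidHom) (fun z hz => h1 (by
        change φ a (φ a⁻¹ z) ∈ B
        rwa [phi_inv])) (hP _ _ h2)
      refine h3.le ?_
      change φ a⁻¹ (φ a y) ∈ B'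
      rwa [phi_inv']) h1⟩
  have hc' : c ∈ K := mem_sInf.2 fun B hB => qfh h hQ hc hσ hf hcH hcW hB.1 hB.2
  rcases hI K hK with e | e
  · exact mem_bot.1 (e ▸ hc')
  · obtain ⟨w, hw⟩ := exists_ne (0 : W)
    obtain ⟨B, -, hB⟩ := Finite.exists_le_maximal (p := P) (a := ⊥)
      ⟨w, hw, fun x hx => by rw [mem_bot.1 hx, map_one]; rfl⟩
    obtain ⟨v, h1, h2⟩ := hB.prop
    have h3 : K ≤ B := sInf_le ⟨hB.prop, fun B' h4 h5 => (hB.eq_of_le h5 h4).symm⟩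
    exact absurd (h0 v fun x => h2 x (h3 (e ▸ mem_top x))) h1

end Cfsg.Agent.NF
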