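import Cfsg.Agent.NF.Bas
import Cfsg.Agent.NF.Act
import Cfsg.Agent.H2.Carter
import Cfsg.Agent.H49.Core

set_option autoImplicit false

namespace Cfsg.Agent.NF

open Subgroup AH

universe u

namespace NilB

variable {G : Type*} [Group G] [Finite G]

theorem nil_iff : Group.IsNilpotent G ↔ ∀ (p : ℕ) (_hp : Fact p.Prime) (P : Sylow p G), (P : Subgroup G).Normal :=
  Group.isNilpotent_of_finite_tfae.out 0 3

theorem syl_normal (h : Group.IsNilpotent G) {q : ℕ} [hq : Fact q.Prime] (P : Sylow q G) : (P : Subgroup G).Normal :=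
  nil_iff.1 h q hq P

theorem sup_normal {V : Subgroup G} [V.Normal] (h : Group.IsNilpotent (G ⧸ V)) {q : ℕ} [Fact q.Prime]
    (P : Sylow q G) : (V ⊔ (P : Subgroup G)).Normal := by
  have := (syl_normal h (P.mapSurjective (QuotientGroup.mk'_surjective V))).comap (QuotientGroup.mk' V)
  rwa [Sylow.coe_mapSurjective, comap_map_eq, QuotientGroup.ker_mk', sup_comm] at this

theorem cop {V Q : Subgroup G} {p q : ℕ} (hp : p.Prime) (hq : q.Prime) (h : q ≠ p) (hV : IsPGroup p V)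
    (hQ : IsPGroup q Q) : (Nat.card Q).Coprime (Nat.card V) := by
  have := Fact.mk hp
  have := Fact.mk hq
  exact IsPGroup.coprime_card_of_ne q p h Q V hQ hV

end NilB

theorem exists_Q {A G : Type*} [Group A] [Group G] [Finite A] [Finite G]
    {φ : A →* MulAut G} {F : Subgroup A} [F.Normal] (hF : Group.IsNilpotent F) (hf : Fpf φ F ⊤)
    (hK : ∀ K : Subgroup G, Inv φ K → K ≠ ⊤ → Group.IsNilpotent K)
    (hN : ∀ (N : Subgroup G) [N.Normal] (q : ℕ), q.Prime → MI φ N q → Group.IsNilpotent (G ⧸ N))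
    (hG : ¬ Group.IsNilpotent G) {V : Subgroup G} {p : ℕ} (hp : p.Prime) (hV : MI φ V p) :
    ∃ (q : ℕ) (Q : Subgroup G), q.Prime ∧ q ≠ p ∧ Inv φ Q ∧ Q ≠ ⊥ ∧ IsPGroup q Q ∧
      (∀ x ∈ Q, ∀ y ∈ Q, x * y = y * x) ∧ (∀ x ∈ Q, x ^ q = 1) ∧
      (∀ K ≤ Q, Inv φ K → K = ⊥ ∨ K = Q) ∧ ∀ v ∈ V, (∀ x ∈ Q, x * v = v * x) → v = 1 := by
  have := hV.nm
  have hVp : IsPGroup p V := fun x => ⟨1, Subtype.ext (by simpa using hV.exp _ x.2)⟩
  have hGV := hN V p hp hV
  obtain ⟨q, hq, hqp, P, hPi, hPc⟩ : ∃ (q : ℕ) (_ : Fact q.Prime), q ≠ p ∧ ∃ P : Sylow q G, Inv φ P ∧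
      ¬ (P : Subgroup G) ≤ centralizer (V : Set G) := by
    by_contra! h
    refine hG (NilB.nil_iff.2 fun q hq P' => ?_)
    obtain ⟨P, hP, -⟩ := syl hF hf q
    have hn := NilB.sup_normal hGV P
    have hP' : (P : Subgroup G).Normal := by
      by_cases e : q = p
      · subst e
        rwa [sup_eq_right.2 (hVp.le_sylow_of_normal P)] at hn
      · have h1 := Sylow.normalizer_sup_eq_top' (N := V ⊔ (P : Subgroup G)) P le_sup_right
        exact normalizer_eq_top_iff.1 ((sup_eq_left.2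
          (sup_le ((H49.cent_symm (h q hq e P hP)).trans (H49.cent_le_norm _)) le_normalizer)).symm.trans h1)
    have := P.unique_of_normal hP'
    rwa [Subsingleton.elim P' P]
  have hQq := P.isPGroup'
  generalize (P : Subgroup G) = Q at hPi hPc hQq
  have hco := NilB.cop hp hq.out hqp hVp hQq
  have hd : Disjoint Q V := disjoint_of_coprime_natCard hco
  have cen : ∀ K ≤ Q, Inv φ K → V ⊔ K ≠ ⊤ → K ≤ centralizer (V : Set G) := fun K h1 h2 h3 =>
    H49.nilpotent_cent_of_coprime (hK _ (hV.inv.sup h2) h3) le_sup_right le_sup_left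
      (hco.coprime_dvd_left (card_dvd_of_le h1))
  have top : V ⊔ Q = ⊤ := by_contra fun h => hPc (cen Q le_rfl hPi h)
  have hVa : V ≤ centralizer (V : Set G) := fun x hx y hy => hV.comm y hy x hx
  have c1 : V ⊓ centralizer (Q : Set G) = ⊥ := by
    refine (hV.min _ ?_ (hV.inv.inf hPi.centralizer) inf_le_left).resolve_right fun e =>
      hPc (H49.cent_symm (e ▸ inf_le_right))
    rw [H49.normal_iff_top_le_norm, ← top]
    exact sup_le (H49.norm_of_cent (hVa.trans (H49.cent_anti inf_le_left)))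
      (H49.norm_of_cent (H49.cent_symm inf_le_right))
  have c2 : Q ⊓ centralizer (V : Set G) = ⊥ := by
    by_contra h
    have hn : (Q ⊓ centralizer (V : Set G)).Normal := by
      rw [H49.normal_iff_top_le_norm, ← top]
      exact sup_le (H49.norm_of_cent (H49.cent_symm inf_le_right))
        (H49.norm_inf le_normalizer (H49.norm_cent (le_top.trans (H49.normal_iff_top_le_norm.1 hV.nm))))
    obtain ⟨V', h1, h2⟩ := exists_MI hn (hPi.inf hV.inv.centralizer) h hq.out (hQq.to_le inf_le_left)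
    have := h2.nm
    have := hN V' q hq.out h2
    refine hG (H2.isNilpotent_of_ker_inf_ker (QuotientGroup.mk' V') (QuotientGroup.mk' V) ?_)
    rw [QuotientGroup.ker_mk', QuotientGroup.ker_mk']
    exact disjoint_iff.1 (hd.mono_left (h1.trans inf_le_left))
  have min : ∀ K ≤ Q, Inv φ K → K = ⊥ ∨ K = Q := fun K h1 h2 => by
    by_cases e : V ⊔ K = ⊤
    · refine .inr (le_antisymm h1 fun x hx => ?_)
      obtain ⟨v, hv, k, hk, rfl⟩ := (mem_sup_of_normal_left (s := V) (t := K)).1 (e ▸ mem_top x)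
      have : v = 1 := disjoint_def.1 hd (by simpa using Q.mul_mem hx (Q.inv_mem (h1 hk))) hv
      rwa [this, one_mul]
    · exact .inl (le_bot_iff.1 (c2 ▸ le_inf h1 (cen K h1 h2 e)))
  have h0 : Q ≠ ⊥ := fun e => hPc (e ▸ bot_le)
  have ab : Q ≤ centralizer (Q : Set G) :=
    inf_eq_left.1 ((min _ inf_le_left (hPi.inf hPi.centralizer)).resolve_left
      (H49.center_ne_bot_of_nilpotent hQq.isNilpotent h0))
  have ex : H2.powKer Q (H49.abelian_iff.2 ab) q = Q := by
    refine (min (H2.powKer Q (H49.abelian_iff.2 ab) q) (fun x hx => hx.1) fun a x hx => ⟨hPi a x hx.1, by rw [← map_pow, hx.2, map_one]⟩).resolve_left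
      fun e => ?_
    obtain ⟨n, hn⟩ := IsPGroup.iff_card.1 hQq
    have hd : q ∣ Nat.card Q := hn ▸ dvd_pow_self q (by
      rintro rfl
      exact h0 (card_eq_one.1 hn))
    obtain ⟨⟨x, hx⟩, ho⟩ := exists_prime_orderOf_dvd_card' q hd
    rw [orderOf_mk] at ho
    have : x ∈ H2.powKer Q (H49.abelian_iff.2 ab) q := ⟨hx, ho ▸ pow_orderOf_eq_one x⟩
    rw [e, mem_bot] at this
    rw [this, orderOf_one] at ho
    exact hq.out.one_lt.ne ho
  exact ⟨q, Q, hq.out, hqp, hPi, h0, hQq, fun x hx y hy => ab hy x hx, fun x hx => (ex.ge hx).2, min,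
    fun v hv h => mem_bot.1 (c1 ▸ mem_inf.2 ⟨hv, h⟩)⟩

end Cfsg.Agent.NF
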