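import Cfsg.Agent.NF.NilA
import Cfsg.Agent.NF.NilB
import Cfsg.Agent.NF.ModB
import Cfsg.Agent.H3.NilpotentHall

/-! Project NF: nilpotent fixed points of the complement force nilpotency. -/

set_option autoImplicit false

namespace Cfsg.Agent.NF

open Subgroup AH

universe u

theorem nil_sub {A G : Type*} [Group A] [Group G] {φ : A →* MulAut G} {F : Subgroup A}
    (hf : Fpf φ F ⊤) {K : Subgroup G} {ψ : A →* MulAut K} (hψ : ∀ a (x : K), (ψ a x : G) = φ a x) :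
    Fpf ψ F ⊤ := fun x _ hx =>
  Subtype.ext (hf x (mem_top _) fun f hf' => by rw [← hψ, hx f hf'])

theorem nil {A : Type*} {G : Type u} [Group A] [Group G] [Finite A] [Finite G] {φ : A →* MulAut G}
    {F H : Subgroup A} [F.Normal] (h : Fr F H) (hf : Fpf φ F ⊤) (hC : Group.IsNilpotent (Cf φ H)) :
    Group.IsNilpotent G := by
  revert φ
  refine H2.card_induction (P := fun G _ _ => ∀ {φ : A →* MulAut G}, Fpf φ F ⊤ →
    Group.IsNilpotent (Cf φ H) → Group.IsNilpotent G) G ?_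
  intro G _ _ ih φ hf hC
  have hK : ∀ K : Subgroup G, Inv φ K → K ≠ ⊤ → Group.IsNilpotent K := fun K hi hK => by
    obtain ⟨ψ, hψ⟩ := exists_sub K hi
    refine ih K (by simpa using H2.card_lt_of_lt (lt_top_iff_ne_top.mpr hK)) (nil_sub hf hψ) ?_
    let j : Cf ψ H →* Cf φ H := (K.subtype.comp (Cf ψ H).subtype).codRestrict _ fun x a ha =>
      (hψ a x.1).symm.trans (congrArg Subtype.val (x.2 a ha))
    refine Subgroup.isNilpotent_of_ker_le_center j (fun x hx => ?_)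
    rw [show x = 1 from Subtype.ext (Subtype.ext
      (congrArg (Subtype.val : Cf φ H → G) (MonoidHom.mem_ker.1 hx)))]
    exact one_mem _
  have hN : ∀ (N : Subgroup G) [N.Normal] (q : ℕ), q.Prime → MI φ N q →
      Group.IsNilpotent (G ⧸ N) := fun N _ q hq hM => by
    obtain ⟨ψ, hψ⟩ := exists_quot N hM.inv
    refine ih (G ⧸ N) (H2.card_quotient_lt N hM.ne) (Fpf.quot h.nil hf hM.inv hψ) ?_
    let j : Cf φ H →* Cf ψ H := ((QuotientGroup.mk' N).comp (Cf φ H).subtype).codRestrict _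
      fun x a ha => (hψ a x.1).trans (congrArg QuotientGroup.mk (x.2 a ha))
    refine Group.nilpotent_of_surjective j fun ⟨y, hy⟩ => ?_
    obtain ⟨g, rfl⟩ := QuotientGroup.mk_surjective y
    obtain ⟨c, hc, hc'⟩ := cover h hq hM (fun x _ => hf x (mem_top _)) (g := g) fun a ha =>
      QuotientGroup.eq.1 ((hy a ha).symm.trans (hψ a g))
    exact ⟨⟨c, hc⟩, Subtype.ext (QuotientGroup.eq.2 hc')⟩
  by_contra hG
  rcases subsingleton_or_nontrivial G with h1 | h1
  · exact hG inferInstance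
  obtain ⟨p, N, hp, hn, hi, h0, hP⟩ := exists_normal_p h.nil hf hK
  obtain ⟨V, -, hV⟩ := exists_MI hn hi h0 hp hP
  obtain ⟨q, Q, hq, hqp, hQi, hQ0, hQp, hQc, hQe, hQm, hQV⟩ := exists_Q h.nil hf hK hN hG hp hV
  obtain ⟨ψ, hψ⟩ := exists_sub Q hQi
  have hI : ∀ L : Subgroup Q, Inv ψ L → L = ⊥ ∨ L = ⊤ := fun L hL => by
    refine (hQm (L.map Q.subtype) (map_subtype_le L) ?_).imp (fun e => ?_) fun e => ?_
    · rintro a _ ⟨x, hx, rfl⟩
      exact ⟨ψ a x, hL a x hx, hψ a x⟩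
    · exact (map_eq_bot_iff_of_injective _ (subtype_injective _)).1 e
    · exact map_injective (subtype_injective Q) (by rw [e, ← MonoidHom.range_eq_map, range_subtype])
  haveI : Nontrivial Q := (nontrivial_iff_ne_bot Q).2 hQ0
  have hM : MI ψ ⊤ q := ⟨inferInstance, fun _ _ _ => mem_top _, top_ne_bot,
    fun x _ y _ => Subtype.ext (hQc x x.2 y y.2), fun x _ => Subtype.ext (hQe x x.2),
    fun L _ hL _ => hI L hL⟩
  obtain ⟨c, -, c1, hc⟩ := cf_ne h hq hM (nil_sub hf hψ)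
  haveI := Fact.mk hp
  haveI := Fact.mk hq
  obtain ⟨W, _, _, ι, σ, ρ, hR, hρ⟩ := exists_rep2 V hV.nm hV.inv p hV.comm hV.exp
  haveI := hR.finite
  haveI := hR.nontrivial hV.ne
  refine c1 (qfh' (φ := ψ) (σ := σ.comp Q.subtype) (ρ := ρ) h
    (fun x y => Subtype.ext (hQc x x.2 y y.2)) (fun hd => ?_) (fun a x w => hR.inj ?_)
    (fun w hw => hR.eq_one.1 (hf _ (mem_top _) fun f hf' => by rw [← hρ, hw f hf']))
    (fun w hw => hR.eq_one.1 (hQV _ ((hR.mem _).2 ⟨w, rfl⟩) fun x hx =>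
      (hR.fix x w).1 (hw ⟨x, hx⟩))) hI hc fun w hw => (hR.fix _ w).2 ?_)
  · obtain ⟨n, hn⟩ := hQp.exists_card_eq
    rw [hn] at hd
    exact hqp ((Nat.prime_dvd_prime_iff_eq hp hq).1 (hp.dvd_of_dvd_pow hd)).symm
  · change ι (ρ a (σ x w)) = ι (σ (ψ a x) (ρ a w))
    rw [hρ, hR.conj, hR.conj, hρ, hψ, map_mul, map_mul, map_inv]
  · have h2 : (c : G) ∈ Cf φ H := fun a ha => (hψ a c).symm.trans (congrArg Subtype.val (hc a ha))
    have h3 : ι w ∈ Cf φ H := fun a ha => by rw [← hρ, hw a ha]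
    have h4 := H3.commute_of_coprime_orderOf (⟨c, h2⟩ : Cf φ H) ⟨ι w, h3⟩ (by
      rw [← orderOf_coe, ← orderOf_coe]
      exact (((Nat.coprime_primes hq hp).2 hqp).coprime_dvd_left
        (orderOf_dvd_of_pow_eq_one (hQe c c.2))).coprime_dvd_right
        (orderOf_dvd_of_pow_eq_one (hV.exp _ ((hR.mem _).2 ⟨w, rfl⟩))))
    exact congrArg Subtype.val h4.eq

end Cfsg.Agent.NF
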