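import Cfsg.Agent.NF.Bas
import Cfsg.Agent.NF.Act
import Cfsg.Agent.S0108
import Cfsg.Agent.H1.Fpf
import Cfsg.Agent.H1.NilCompl
import Cfsg.Agent.H21.Thompson

/-! Project NF: a non-trivial normal invariant subgroup of prime power order. -/

set_option autoImplicit false

namespace Cfsg.Agent.NF

open Subgroup AH

universe u

theorem nilA_char {A G : Type*} [Group A] [Group G] (φ : A →* MulAut G) (K : Subgroup G)
    [h : K.Characteristic] : Inv φ K :=
  Inv.of_map fun a => characteristic_iff_map_eq.mp h (φ a)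

theorem exists_normal_p {A G : Type*} [Group A] [Group G] [Finite A] [Finite G] [Nontrivial G]
    {φ : A →* MulAut G} {F : Subgroup A} [F.Normal] (hF : Group.IsNilpotent F) (hf : Fpf φ F ⊤)
    (hK : ∀ K : Subgroup G, Inv φ K → K ≠ ⊤ → Group.IsNilpotent K) :
    ∃ (p : ℕ) (N : Subgroup G), p.Prime ∧ N.Normal ∧ Inv φ N ∧ N ≠ ⊥ ∧ IsPGroup p N := by
  have htop : ∀ q : ℕ, q.Prime → IsPGroup q G →
      ∃ (p : ℕ) (N : Subgroup G), p.Prime ∧ N.Normal ∧ Inv φ N ∧ N ≠ ⊥ ∧ IsPGroup p N :=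
    fun q hq h => ⟨q, ⊤, hq, inferInstance, fun _ _ _ => mem_top _, top_ne_bot, h.to_subgroup ⊤⟩
  by_cases h2 : ∀ q : ℕ, q.Prime → q ∣ Nat.card G → q = 2
  · exact htop 2 Nat.prime_two (IsPGroup.of_card (Nat.eq_prime_pow_of_unique_prime_dvd
      Nat.card_pos.ne' fun {q} hq hd => h2 q hq hd))
  push Not at h2
  obtain ⟨q, hq, hqd, hq2⟩ := h2
  have := Fact.mk hq
  obtain ⟨Q, hQ, -⟩ := syl hF hf q
  have hqQ : q ∣ Nat.card Q := Q.dvd_card_of_dvd_card hqd
  have hQ0 : (Q : Subgroup G) ≠ ⊥ := Q.ne_bot_of_dvd_card hqd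
  have hJ : Inv φ (thompsonSubgroupOf q (Q : Subgroup G)) := Inv.of_map fun a => by
    rw [H21.thompsonSubgroupOf_map _ _ (φ a).injective, hQ.map_eq]
  have hZ := hQ.inf hQ.centralizer
  by_cases h3 : normalizer (thompsonSubgroupOf q (Q : Subgroup G) : Set G) = ⊤
  · exact ⟨q, _, hq, normalizer_eq_top_iff.mp h3, hJ, H21.thompsonSubgroupOf_ne_bot hqQ,
      Q.2.to_le (H21.thompsonSubgroupOf_le _ _)⟩
  by_cases h4 : centralizer (((Q : Subgroup G) ⊓ centralizer (Q : Set G) : Subgroup G) : Set G) = ⊤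
  · exact ⟨q, _, hq, normalizer_eq_top_iff.mp (eq_top_iff.mpr (h4 ▸ centralizer_le_normalizer _)),
      hZ, H1.inf_centralizer_ne_bot_of_isPGroup Q.2 hQ0, Q.2.to_le inf_le_left⟩
  have h5 := (S0108.result hq2 Q).mpr
    ⟨H1.hasNormalPComplement_of_nilpotent (hK _ hJ.normalizer h3) q,
      H1.hasNormalPComplement_of_nilpotent (hK _ hZ.centralizer h4) q⟩
  by_cases h6 : pResidual q G = ⊥
  · exact htop q hq (H3.pResidual_eq_bot_iff.mp h6)
  have hc := H3.pResidual_characteristic (p := q) (G := G)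
  have hi := nilA_char φ (pResidual q G)
  have h7 := hK _ hi fun h7 => by
    have h8 := H3.hasNormalPComplement_iff_coprime.mp h5
    rw [h7, card_top] at h8
    exact absurd (Nat.eq_one_of_dvd_coprimes h8 hqd dvd_rfl) hq.ne_one
  obtain ⟨r, hr, hrd⟩ := Nat.exists_prime_and_dvd (mt card_eq_one.1 h6)
  have := Fact.mk hr
  obtain ⟨R⟩ : Nonempty (Sylow r (pResidual q G)) := inferInstance
  have hRn : (R : Subgroup (pResidual q G)).Normal := inferInstance
  have hRc := Sylow.characteristic_of_normal R hRn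
  obtain ⟨ψ, hψ⟩ := exists_sub _ hi
  refine ⟨r, (R : Subgroup (pResidual q G)).map (pResidual q G).subtype, hr, inferInstance, ?_,
    fun e => R.ne_bot_of_dvd_card hrd ((map_eq_bot_iff_of_injective _ (subtype_injective _)).1 e),
    R.2.map _⟩
  rintro a _ ⟨x, hx, rfl⟩
  exact ⟨ψ a x, nilA_char ψ _ a x hx, hψ a x⟩

end Cfsg.Agent.NF
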